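/-
Cocliques of size three in the prime graph.

* `false_of_chain`: no nontrivial `p`-group `P` is normalised by a `q`-group `A` and an element `y` of
  order `r` normalising `A`, when `p, q, r` are pairwise non-adjacent.
* `not_isSolvable_of_three`: a solvable group has no three pairwise non-adjacent primes.
-/
import Cfsg.Agent.Lib.Frobenius.Complement
import Cfsg.Agent.Lib.Solvable.Hall

set_option autoImplicit false

namespace Cfsg.Agent.PrimeGraph

variable {G : Type*} [Group G]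

/-- Commuting elements of distinct prime orders `p`, `q` give an element of order `p * q`. -/
theorem exists_orderOf_mul_prime {p q : ℕ} (hp : p.Prime) (hq : q.Prime) (hpq : p ≠ q) {a b : G}
    (ha : orderOf a = p) (hb : orderOf b = q) (hab : Commute a b) : ∃ x : G, orderOf x = p * q :=
  ⟨a * b, by
    rw [hab.orderOf_mul_eq_mul_orderOf_of_coprime (by rw [ha, hb]; exact (Nat.coprime_primes hp hq).2 hpq),
      ha, hb]⟩

/-- A nontrivial element of a `p`-group has a power of order `p`. -/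
theorem exists_pow_orderOf_eq_prime [Finite G] {p : ℕ} [hp : Fact p.Prime] {P : Subgroup G} (hP : IsPGroup p P)
    {a : G} (ha : a ∈ P) (ha1 : a ≠ 1) : ∃ k : ℕ, orderOf (a ^ k) = p := by
  obtain ⟨j, hj⟩ := IsPGroup.iff_orderOf.1 hP ⟨a, ha⟩
  rw [Subgroup.orderOf_mk] at hj
  rcases j with _ | j
  · exact absurd (orderOf_eq_one_iff.1 (by simpa using hj)) ha1
  refine ⟨p ^ j, ?_⟩
  rw [orderOf_pow' _ (pow_ne_zero _ hp.out.ne_zero), hj, Nat.gcd_eq_right (pow_dvd_pow p j.le_succ),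
    pow_succ, Nat.mul_div_cancel_left _ (pow_pos hp.out.pos _)]

theorem false_of_chain [Finite G] {p q r : ℕ} (hp : p.Prime) (hq : q.Prime) (hr : r.Prime)
    (hpq : p ≠ q) (hpr : p ≠ r) (hqr : q ≠ r) {P A : Subgroup G} {y : G}
    (hP : IsPGroup p P) (hP1 : P ≠ ⊥) (hA : IsPGroup q A) (hA1 : A ≠ ⊥) (hy : orderOf y = r)
    (hAP : A ≤ Subgroup.normalizer (P : Set G)) (hyP : y ∈ Subgroup.normalizer (P : Set G))
    (hyA : y ∈ Subgroup.normalizer (A : Set G))
    (hno : (¬ ∃ x : G, orderOf x = p * q) ∧ (¬ ∃ x : G, orderOf x = p * r) ∧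
      ¬ ∃ x : G, orderOf x = q * r) : False := by
  classical
  haveI := Fact.mk hp
  haveI := Fact.mk hq
  haveI := Fact.mk hr
  obtain ⟨hnpq, hnpr, hnqr⟩ := hno
  set C := Subgroup.zpowers y with hC
  have hCA : C ≤ Subgroup.normalizer (A : Set G) := Subgroup.zpowers_le.2 hyA
  obtain ⟨a, ha⟩ := IsPGroup.iff_card.1 hA
  have hdisj : Disjoint C A := by
    rw [disjoint_iff]
    refine Subgroup.inf_eq_bot_of_coprime ?_
    rw [hC, Nat.card_zpowers, hy, ha]
    exact Nat.Coprime.pow_right _ ((Nat.coprime_primes hr hq).2 hqr.symm)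
  set X := C ⊔ A with hX
  have hcX : Nat.card X = r * q ^ a := by
    rw [Frobenius.card_sup_of_disjoint hCA hdisj, hC, Nat.card_zpowers, hy, ha]
  have hXP : X ≤ Subgroup.normalizer (P : Set G) := sup_le (Subgroup.zpowers_le.2 hyP) hAP
  have hfpf : Frobenius.FPF X P := by
    intro x hx hx1 v hv hxv
    by_contra hv1
    obtain ⟨i, hi⟩ := exists_pow_orderOf_eq_prime hP hv hv1
    obtain ⟨s, hs, hsd⟩ := Nat.exists_prime_and_dvd (fun h => hx1 (orderOf_eq_one_iff.1 h) :
      orderOf x ≠ 1)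
    have hxs : orderOf (x ^ (orderOf x / s)) = s := orderOf_pow_orderOf_div (orderOf_pos x).ne' hsd
    have hc : Commute (v ^ i) (x ^ (orderOf x / s)) := (Commute.symm hxv).pow_pow _ _
    have hsX : s ∣ r * q ^ a := hcX ▸ hsd.trans (Subgroup.orderOf_dvd_natCard X hx)
    rcases hs.dvd_mul.1 hsX with h | h
    · obtain rfl := (Nat.prime_dvd_prime_iff_eq hs hr).1 h
      exact hnpr (exists_orderOf_mul_prime hp hr hpr hi hxs hc)
    · obtain rfl := (Nat.prime_dvd_prime_iff_eq hs hq).1 (hs.dvd_of_dvd_pow h)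
      exact hnpq (exists_orderOf_mul_prime hp hq hpq hi hxs hc)
  have hsmall := Frobenius.smallCyclic_of_fpf hP1 hXP hfpf
  -- the elements of order dividing `q` in the centre of `A`
  let A0 : Subgroup G :=
    { carrier := {z | z ∈ A ∧ z ∈ Subgroup.centralizer (A : Set G) ∧ z ^ q = 1}
      one_mem' := ⟨one_mem _, one_mem _, one_pow _⟩
      mul_mem' := fun {u v} hu hv => ⟨mul_mem hu.1 hv.1, mul_mem hu.2.1 hv.2.1, by
        rw [(show Commute u v from (Subgroup.mem_centralizer_iff.1 hv.2.1 u hu.1)).mul_pow, hu.2.2,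
          hv.2.2, one_mul]⟩
      inv_mem' := fun {u} hu => ⟨inv_mem hu.1, inv_mem hu.2.1, by rw [inv_pow, hu.2.2, inv_one]⟩ }
  have hA0 : A0 ≤ A := fun z hz => hz.1
  have hA0p : IsPGroup q A0 := hA.to_le hA0
  have hA01 : A0 ≠ ⊥ := by
    have hnt : Nontrivial A := (Subgroup.nontrivial_iff_ne_bot _).2 hA1
    have := hA.center_nontrivial
    obtain ⟨z, hz⟩ := exists_ne (1 : Subgroup.center A)
    have hzA : (z : A).1 ∈ A := (z : A).2
    obtain ⟨k, hk⟩ := exists_pow_orderOf_eq_prime hA hzA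
      (fun h => hz (Subtype.ext (Subtype.ext h)))
    intro hbot
    have hmem : ((z : A) : G) ^ k ∈ A0 := by
      refine ⟨pow_mem hzA _, pow_mem ?_ _, by rw [← hk, pow_orderOf_eq_one]⟩
      rw [Subgroup.mem_centralizer_iff]
      exact fun u hu => congrArg Subtype.val (Subgroup.mem_center_iff.1 z.2 ⟨u, hu⟩)
    rw [hbot, Subgroup.mem_bot] at hmem
    rw [hmem, orderOf_one] at hk
    exact hq.ne_one hk.symm
  obtain ⟨b, hb⟩ := IsPGroup.iff_card.1 hA0p
  have hb1 : b = 1 := by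
    by_contra hne
    have hb0 : b ≠ 0 := by
      rintro rfl
      exact hA01 (Subgroup.card_eq_one.1 (by simpa using hb))
    have hdvd : q ^ 2 ∣ Nat.card A0 := hb ▸ pow_dvd_pow q (by omega)
    obtain ⟨B, hB⟩ := Sylow.exists_subgroup_card_pow_prime q hdvd
    let B' := B.map A0.subtype
    have hB'X : B' ≤ X := (Subgroup.map_subtype_le B).trans (hA0.trans le_sup_right)
    have hB'c : Nat.card B' = q ^ 2 := by
      rw [Subgroup.card_map_of_injective A0.subtype_injective, hB]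
    have hcyc : IsCyclic (B'.subgroupOf X) := hsmall q q hq hq _ (by
      rw [Nat.card_congr (Subgroup.subgroupOfEquivOfLe hB'X).toEquiv, hB'c, sq])
    obtain ⟨g, hg⟩ := isCyclic_iff_exists_orderOf_eq_natCard.1 hcyc
    have hgq : g ^ q = 1 := by
      have hmem : ((g : X) : G) ∈ A0 := Subgroup.map_subtype_le B (Subgroup.mem_subgroupOf.1 g.2)
      exact Subtype.ext (Subtype.ext hmem.2.2)
    have h1 := orderOf_dvd_of_pow_eq_one hgq
    rw [hg, Nat.card_congr (Subgroup.subgroupOfEquivOfLe hB'X).toEquiv, hB'c] at h1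
    have := Nat.le_of_dvd hq.pos h1
    nlinarith [hq.two_le]
  subst hb1
  rw [pow_one] at hb
  have hyA0 : y ∈ Subgroup.normalizer (A0 : Set G) := by
    have key : ∀ w : G, w ∈ Subgroup.normalizer (A : Set G) → ∀ z ∈ A0, w * z * w⁻¹ ∈ A0 := by
      intro w hw z hz
      refine ⟨(Subgroup.mem_normalizer_iff.1 hw z).1 hz.1, ?_, ?_⟩
      · rw [Subgroup.mem_centralizer_iff]
        intro u hu
        have hu' : w⁻¹ * u * w ∈ A := by
          have := (Subgroup.mem_normalizer_iff.1 (inv_mem hw) u).1 hu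
          simpa using this
        have := Subgroup.mem_centralizer_iff.1 hz.2.1 _ hu'
        calc u * (w * z * w⁻¹) = w * ((w⁻¹ * u * w) * z) * w⁻¹ := by group
          _ = w * (z * (w⁻¹ * u * w)) * w⁻¹ := by rw [this]
          _ = w * z * w⁻¹ * u := by group
      · rw [conj_pow, hz.2.2, mul_one, mul_inv_cancel]
    refine Subgroup.mem_normalizer_iff.2 fun z => ⟨key y hyA z, fun h => ?_⟩
    have := key y⁻¹ (inv_mem hyA) _ h
    simpa [mul_assoc] using this
  have hdisj0 : Disjoint C A0 := hdisj.mono_right hA0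
  have hle : C ⊔ A0 ≤ X := sup_le_sup_left hA0 C
  have hcyc : IsCyclic ((C ⊔ A0).subgroupOf X) := hsmall r q hr hq _ (by
    rw [Nat.card_congr (Subgroup.subgroupOfEquivOfLe hle).toEquiv,
      Frobenius.card_sup_of_disjoint (Subgroup.zpowers_le.2 hyA0) hdisj0, Nat.card_zpowers, hy, hb])
  obtain ⟨g, hg⟩ := isCyclic_iff_exists_orderOf_eq_natCard.1 hcyc
  refine hnqr ⟨((g : X) : G), ?_⟩
  rw [Subgroup.orderOf_coe, Subgroup.orderOf_coe, hg,
    Nat.card_congr (Subgroup.subgroupOfEquivOfLe hle).toEquiv,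
    Frobenius.card_sup_of_disjoint (Subgroup.zpowers_le.2 hyA0) hdisj0, Nat.card_zpowers, hy, hb,
    mul_comm]

/-- In a nontrivial solvable group whose order has all prime divisors in a set, a minimal normal
subgroup is a nontrivial `l`-group for one of these primes. -/
theorem exists_normal_of_prime_set [Finite G] [Group.IsSolvable G] {π : Set ℕ} {H : Subgroup G}
    (hH : Cfsg.IsPiHall π H) (hH1 : H ≠ ⊥) :
    ∃ l ∈ π, l.Prime ∧ ∃ P : Subgroup G, P ≤ H ∧ P ≠ ⊥ ∧ IsPGroup l P ∧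
      H ≤ Subgroup.normalizer (P : Set G) := by
  haveI : Nontrivial H := (Subgroup.nontrivial_iff_ne_bot _).2 hH1
  obtain ⟨l, hl, M, hMn, hM1, hMp⟩ := Solvable.exists_normal_pGroup_ne_bot H
  haveI := Fact.mk hl
  haveI : Nontrivial M := (Subgroup.nontrivial_iff_ne_bot _).2 hM1
  obtain ⟨j, hj, hc⟩ := (IsPGroup.nontrivial_iff_card hMp).1 inferInstance
  have hld : l ∣ Nat.card H := ((dvd_pow_self l hj.ne').trans hc.symm.dvd).trans M.card_subgroup_dvd_card
  refine ⟨l, hH.1 l hl hld, hl, M.map H.subtype, Subgroup.map_subtype_le M, ?_,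
    hMp.map H.subtype, ?_⟩
  · rw [Ne, Subgroup.map_eq_bot_iff_of_injective _ H.subtype_injective]
    exact hM1
  · intro h hh
    refine Subgroup.mem_normalizer_iff.2 fun z => ⟨?_, ?_⟩
    · rintro ⟨w, hw, rfl⟩
      exact ⟨⟨h, hh⟩ * w * ⟨h, hh⟩⁻¹, hMn.conj_mem w hw ⟨h, hh⟩, rfl⟩
    · rintro ⟨w, hw, hwz⟩
      refine ⟨⟨h, hh⟩⁻¹ * w * ⟨h, hh⟩, ?_, ?_⟩
      · simpa using hMn.conj_mem w hw ⟨h, hh⟩⁻¹
      · simp only [Subgroup.coe_subtype, Subgroup.coe_mul, InvMemClass.coe_inv] at hwz ⊢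
        rw [hwz]; group

/-- A solvable group has no three pairwise non-adjacent primes dividing its order. -/
theorem not_isSolvable_of_three [Finite G] {p q r : ℕ} (hp : p.Prime) (hq : q.Prime) (hr : r.Prime)
    (hpq : p ≠ q) (hpr : p ≠ r) (hqr : q ≠ r)
    (dp : p ∣ Nat.card G) (dq : q ∣ Nat.card G) (dr : r ∣ Nat.card G)
    (hno : (¬ ∃ x : G, orderOf x = p * q) ∧ (¬ ∃ x : G, orderOf x = p * r) ∧
      ¬ ∃ x : G, orderOf x = q * r) : ¬ Group.IsSolvable G := by
  intro hsol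
  obtain ⟨H, hH⟩ := Solvable.exists_piHall_of_solvable (G := G) ({p, q, r} : Set ℕ)
  have hdvd : ∀ s : ℕ, s.Prime → s ∣ Nat.card G → s ∈ ({p, q, r} : Set ℕ) → s ∣ Nat.card H := by
    intro s hs hd hmem
    rw [← Subgroup.card_mul_index H] at hd
    exact (hs.dvd_mul.1 hd).resolve_right (hH.2 s hs hmem)
  have hH1 : H ≠ ⊥ := by
    intro h
    have := hdvd p hp dp (by simp)
    rw [h, Subgroup.card_bot] at this
    exact hp.ne_one (Nat.dvd_one.1 this)
  obtain ⟨l, hl, hlp, P, hPH, hP1, hPp, hHP⟩ := exists_normal_of_prime_set hH hH1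
  -- move `l` to the first position
  suffices key : ∀ a b : ℕ, a.Prime → b.Prime → l ≠ a → l ≠ b → a ≠ b → a ∣ Nat.card H → b ∣ Nat.card H →
      (¬ ∃ x : G, orderOf x = l * a) → (¬ ∃ x : G, orderOf x = l * b) →
      (¬ ∃ x : G, orderOf x = a * b) → False by
    obtain ⟨h1, h2, h3⟩ := hno
    have hswap : ∀ u v : ℕ, (¬ ∃ x : G, orderOf x = u * v) → ¬ ∃ x : G, orderOf x = v * u :=
      fun u v h => by rwa [mul_comm]
    have hGp := hdvd p hp dp (by simp)
    have hGq := hdvd q hq dq (by simp)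
    have hGr := hdvd r hr dr (by simp)
    rcases hl with rfl | rfl | rfl
    · exact key q r hq hr hpq hpr hqr hGq hGr h1 h2 h3
    · exact key p r hp hr hpq.symm hqr hpr hGp hGr (hswap _ _ h1) h3 h2
    · exact key p q hp hq hpr.symm hqr.symm hpq hGp hGq (hswap _ _ h2)
        (hswap _ _ h3) h1
  intro a b ha hb hla hlb hab hda hdb n1 n2 n3
  obtain ⟨X, hX⟩ := Solvable.exists_piHall_of_solvable (G := H) ({a, b} : Set ℕ)
  have hdX : ∀ s ∈ ({a, b} : Set ℕ), s.Prime → s ∣ Nat.card H → s ∣ Nat.card X := by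
    intro s hmem hs hd'
    rw [← Subgroup.card_mul_index X] at hd'
    exact (hs.dvd_mul.1 hd').resolve_right (hX.2 s hs hmem)
  have hX1 : X ≠ ⊥ := by
    intro h
    have := hdX a (by simp) ha hda
    rw [h, Subgroup.card_bot] at this
    exact ha.ne_one (Nat.dvd_one.1 this)
  obtain ⟨m, hm, hmp, A, hAX, hA1, hAp, hXA⟩ := exists_normal_of_prime_set hX hX1
  let A' := A.map H.subtype
  have hA'1 : A' ≠ ⊥ := by
    rwa [Ne, Subgroup.map_eq_bot_iff_of_injective _ H.subtype_injective]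
  have main : ∀ c : ℕ, c.Prime → c ∣ Nat.card X → ∃ y : G, orderOf y = c ∧
      y ∈ Subgroup.normalizer (P : Set G) ∧ y ∈ Subgroup.normalizer (A' : Set G) := by
    intro c hc hcd
    haveI := Fact.mk hc
    obtain ⟨y, hy⟩ := exists_prime_orderOf_dvd_card' (G := X) c hcd
    refine ⟨((y : H) : G), by rw [Subgroup.orderOf_coe, Subgroup.orderOf_coe, hy], hHP (y : H).2, ?_⟩
    exact Subgroup.le_normalizer_map H.subtype ⟨(y : H), hXA y.2, rfl⟩
  rcases hm with rfl | rfl
  · obtain ⟨y, hy, hyP, hyA⟩ := main b hb (hdX b (by simp) hb hdb)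
    exact false_of_chain hlp hmp hb hla hlb hab hPp hP1 (hAp.map _) hA'1 hy
      ((Subgroup.map_subtype_le A).trans hHP) hyP hyA ⟨n1, n2, n3⟩
  · obtain ⟨y, hy, hyP, hyA⟩ := main a ha (hdX a (by simp) ha hda)
    exact false_of_chain hlp hmp ha hlb hla hab.symm hPp hP1 (hAp.map _) hA'1 hy
      ((Subgroup.map_subtype_le A).trans hHP) hyP hyA ⟨n2, n1, by rwa [mul_comm]⟩

end Cfsg.Agent.PrimeGraph
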