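/-
Groups with the same prime graph as a given finite group `G`, of arbitrarily large order.

Main result: `exists_large_same_primeGraph`: if `G` acts linearly on a finite `ZMod p`-like module `W`
(an additive group of exponent `p`), `p` divides `|G|`, and every element of prime order `s ≠ p`, with
no element of order `p * s` in `G`, fixes only `0`, then the groups `W^N ⋊ G` do the job.
-/
import Cfsg.Agent.EqLemmas

set_option autoImplicit false

namespace Cfsg.Agent.PrimeGraph

universe u v

/-- An element of prime order `s` of the group acts without fixed point; orders in the extension. -/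
theorem orderOf_image_of_semidirect {G : Type u} [Group G] [Finite G] {V : Type v} [CommGroup V]
    (φ : G →* MulAut V) (p : ℕ) (hp : p.Prime) (hV : ∀ x : V, x ^ p = 1)
    (hfix : ∀ g : G, (orderOf g).Prime → orderOf g ≠ p →
      (¬ ∃ y : G, orderOf y = p * orderOf g) → ∀ x : V, φ g x = x → x = 1)
    (r s : ℕ) (hr : r.Prime) (hs : s.Prime) (hrs : r ≠ s)
    (x : V ⋊[φ] G) (hx : orderOf x = r * s) : ∃ y : G, orderOf y = r * s := by
  wlog hsp : s ≠ p generalizing r s
  · push Not at hsp
    obtain ⟨y, hy⟩ := this s r hs hr hrs.symm (by rw [hx, mul_comm]) (fun h => hrs (h.trans hsp.symm))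
    exact ⟨y, by rw [hy, mul_comm]⟩
  set g : G := SemidirectProduct.rightHom x with hg
  have hd : orderOf g ∣ r * s := hx ▸ orderOf_map_dvd _ x
  have hker : SemidirectProduct.rightHom (x ^ orderOf g) = 1 := by
    rw [map_pow, ← hg, pow_orderOf_eq_one]
  obtain ⟨w, hw⟩ : x ^ orderOf g ∈ (SemidirectProduct.inl : V →* V ⋊[φ] G).range := by
    rw [SemidirectProduct.range_inl_eq_ker_rightHom]; exact hker
  have hdvd : r * s ∣ orderOf g * p := by
    rw [← hx]
    apply orderOf_dvd_of_pow_eq_one
    rw [pow_mul, ← hw, ← map_pow, hV, map_one]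
  have hcs : Nat.Coprime s p := (Nat.coprime_primes hs hp).2 hsp
  have hsd : s ∣ orderOf g := hcs.dvd_of_dvd_mul_right ((dvd_mul_left s r).trans hdvd)
  by_cases hrp : r = p
  · subst hrp
    obtain ⟨k, hk⟩ := hsd
    have hkr : k ∣ r := Nat.dvd_of_mul_dvd_mul_left hs.pos (by
      rw [← hk, mul_comm s r]; exact hd)
    rcases (Nat.dvd_prime hp).1 hkr with rfl | rfl
    · rw [mul_one] at hk
      by_contra hno
      have hfw : φ g w = w := by
        have hc : x * x ^ orderOf g = x ^ orderOf g * x := by rw [← pow_succ', ← pow_succ]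
        rw [← hw] at hc
        have h2 := congrArg SemidirectProduct.left hc
        simp only [SemidirectProduct.mul_left, SemidirectProduct.left_inl,
          SemidirectProduct.right_inl, map_one, MulAut.one_apply] at h2
        rw [mul_comm w] at h2
        exact mul_left_cancel h2
      have hw1 := hfix g (hk ▸ hs) (hk ▸ hsp) (hk ▸ hno) w hfw
      rw [hw1, map_one] at hw
      have := orderOf_dvd_of_pow_eq_one hw.symm
      rw [hx, hk] at this
      have := Nat.le_of_dvd hs.pos this
      nlinarith [hr.two_le, hs.pos]
    · exact ⟨g, by rw [hk, mul_comm]⟩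
  · have hcr : Nat.Coprime r p := (Nat.coprime_primes hr hp).2 hrp
    have h := (Nat.Coprime.mul_left hcr hcs).dvd_of_dvd_mul_right hdvd
    exact ⟨g, Nat.dvd_antisymm hd h⟩

/-- Arbitrarily large groups with the prime graph of `G`, from a module of exponent `p`. -/
theorem exists_large_same_primeGraph {G : Type u} [Group G] [Finite G] {W : Type v} [AddCommGroup W]
    [Finite W] [Nontrivial W] (p : ℕ) (hp : p.Prime) (hpG : p ∣ Nat.card G) (hW : ∀ x : W, p • x = 0)
    [DistribMulAction G W]
    (hfix : ∀ g : G, (orderOf g).Prime → orderOf g ≠ p →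
      (¬ ∃ y : G, orderOf y = p * orderOf g) → ∀ x : W, g • x = x → x = 0)
    (N : ℕ) :
    ∃ (H : Type) (_ : Group H) (_ : Fintype H), N < Fintype.card H ∧
      ((∀ r : ℕ, r.Prime → (r ∣ Nat.card G ↔ r ∣ Nat.card H)) ∧
        (∀ r s : ℕ, r.Prime → s.Prime → r ≠ s →
          ((∃ x : G, orderOf x = r * s) ↔ (∃ y : H, orderOf y = r * s)))) := by
  classical
  have := Fact.mk hp
  let V := Multiplicative (Fin N → W)
  let f : G → V → V := fun g w => Multiplicative.ofAdd (fun i => g • Multiplicative.toAdd w i)
  have f_mul : ∀ g g' w, f (g * g') w = f g (f g' w) := fun g g' w => by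
    simp [f, V, mul_smul]
  have f_one : ∀ w, f 1 w = w := fun w => by simp [f, V]
  let φ : G →* MulAut V :=
    { toFun := fun g =>
        { toFun := f g
          invFun := f g⁻¹
          left_inv := fun w => by rw [← f_mul, inv_mul_cancel, f_one]
          right_inv := fun w => by rw [← f_mul, mul_inv_cancel, f_one]
          map_mul' := fun w w' => by
            apply Multiplicative.toAdd.injective
            funext i
            simp [f, V, smul_add] }
      map_one' := MulEquiv.ext f_one
      map_mul' := fun g g' => MulEquiv.ext (f_mul g g') }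
  let K := V ⋊[φ] G
  have : Finite V := inferInstanceAs (Finite (Multiplicative (Fin N → W)))
  have : Finite K := Finite.of_equiv _ SemidirectProduct.equivProd.symm
  have hsmall : Small.{0} K := Countable.toSmall K
  letI : Fintype (Shrink.{0} K) := Fintype.ofFinite _
  let me : Shrink.{0} K ≃* K := Shrink.mulEquiv
  have hcard : Nat.card (Shrink.{0} K) = Nat.card V * Nat.card G := by
    rw [Nat.card_congr me.toEquiv, SemidirectProduct.card]
  refine ⟨Shrink.{0} K, inferInstance, inferInstance, ?_, ?_, ?_⟩
  · rw [← Nat.card_eq_fintype_card, hcard]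
    have h2 : 2 ≤ Nat.card W := Finite.one_lt_card
    have hVc : Nat.card V = Nat.card W ^ N := by
      rw [show Nat.card V = Nat.card (Fin N → W) from Nat.card_congr Multiplicative.toAdd, Nat.card_fun,
        Nat.card_fin]
    rw [hVc]
    calc N < 2 ^ N := Nat.lt_two_pow_self
      _ ≤ Nat.card W ^ N := Nat.pow_le_pow_left h2 N
      _ ≤ Nat.card W ^ N * Nat.card G := Nat.le_mul_of_pos_right _ Nat.card_pos
  · intro r hr
    rw [hcard]
    refine ⟨fun h => h.mul_left _, fun h => ?_⟩
    rcases (Nat.Prime.dvd_mul hr).1 h with h | h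
    · have hV : IsPGroup p V := fun x => ⟨1, by
        rw [pow_one]
        apply Multiplicative.toAdd.injective
        funext i
        exact hW (Multiplicative.toAdd x i)⟩
      obtain ⟨k, hk⟩ := IsPGroup.iff_card.1 hV
      rw [hk] at h
      rwa [(Nat.prime_dvd_prime_iff_eq hr hp).1 (hr.dvd_of_dvd_pow h)]
    · exact h
  · intro r s hr hs hrs
    constructor
    · rintro ⟨x, hx⟩
      refine ⟨me.symm (SemidirectProduct.inr x), ?_⟩
      exact (MulEquiv.orderOf_eq me.symm _).trans
        ((orderOf_injective _ SemidirectProduct.inr_injective x).trans hx)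
    · rintro ⟨y, hy⟩
      refine orderOf_image_of_semidirect φ p hp ?_ ?_ r s hr hs hrs (me y) ((MulEquiv.orderOf_eq me y).trans hy)
      · intro x
        apply Multiplicative.toAdd.injective
        funext i
        exact hW (Multiplicative.toAdd x i)
      · intro g hg1 hg2 hg3 x hx
        apply Multiplicative.toAdd.injective
        funext i
        exact hfix g hg1 hg2 hg3 _ (congrFun (congrArg Multiplicative.toAdd hx) i)

end Cfsg.Agent.PrimeGraph
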