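import Cfsg.Agent.Lib.GLOrder.SympOrders
import Cfsg.Agent.S2469
import Cfsg.Agent.S2472

/-!
# The prime graph of `PSp(6,3)`

`primes_psp`: the prime divisors are `2, 3, 5, 7, 13`;
`edges_psp`: `p q` is an element order iff `p q ∈ {6, 10, 14, 15}`.
-/

set_option autoImplicit false
set_option linter.style.haveILetI false

namespace Cfsg.Agent.PrimeGraph.PSpSixThree

open Cfsg Cfsg.Agent.GLOrder Module
open scoped Matrix

variable {F : Type*} [Field F] [Fintype F] (hF : Fintype.card F = 3)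

include hF in
lemma charThree : CharP F 3 := by
  obtain ⟨p, hp⟩ := CharP.exists F
  obtain ⟨n, hpp, hn⟩ := FiniteField.card F p
  have h : p ∣ 3 := by rw [← hF, hn]; exact dvd_pow_self p (PNat.ne_zero n)
  rcases (Nat.dvd_prime Nat.prime_three).mp h with rfl | rfl
  · exact absurd Nat.not_prime_one (not_not.mpr hpp)
  · exact hp

include hF in
lemma three_eq_zero : (3 : F) = 0 := by
  haveI := charThree hF
  exact_mod_cast CharP.cast_eq_zero F 3

include hF in
lemma two_ne_zero' : (2 : F) ≠ 0 := fun h => one_ne_zero (α := F) (by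
  linear_combination three_eq_zero hF - h)

include hF in
lemma sq_ne_neg_one (x : F) : x ^ 2 ≠ -1 := by
  intro h
  have h3 : x ^ 3 = x := hF ▸ FiniteField.pow_card x
  have h2 := two_ne_zero' hF
  rcases eq_or_ne x 0 with rfl | hx
  · simp at h
  · have : x ^ 2 = 1 := mul_left_cancel₀ hx (by rw [mul_one, ← pow_succ', h3])
    exact h2 (by linear_combination h - this)

include hF in
lemma card_sp : Nat.card (Matrix.symplecticGroup (Fin 3) F) = 2 ^ 10 * 3 ^ 9 * 5 * 7 * 13 := by
  rw [card_Sp, Nat.card_eq_fintype_card, hF]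
  norm_num [Finset.prod_range_succ]

include hF in
lemma card_psp : Nat.card (Cfsg.PSp 3 F) = 2 ^ 9 * 3 ^ 9 * 5 * 7 * 13 := by
  have h := Subgroup.card_eq_card_quotient_mul_card_subgroup
    (Subgroup.center (Matrix.symplecticGroup (Fin 3) F))
  rw [card_sp hF, card_center_Sp (by norm_num), Nat.card_eq_fintype_card (α := F), hF] at h
  norm_num at h
  show Nat.card (Matrix.symplecticGroup (Fin 3) F ⧸ _) = _
  omega

include hF in
theorem primes_psp (p : ℕ) (hp : p.Prime) :
    p ∣ Nat.card (Cfsg.PSp 3 F) ↔ p ∈ ({2, 3, 5, 7, 13} : Finset ℕ) := by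
  rw [card_psp hF]
  constructor
  · intro h
    simp only [Finset.mem_insert, Finset.mem_singleton]
    rcases hp.dvd_mul.mp h with h | h
    · rcases hp.dvd_mul.mp h with h | h
      · rcases hp.dvd_mul.mp h with h | h
        · rcases hp.dvd_mul.mp h with h | h
          · exact Or.inl ((Nat.prime_dvd_prime_iff_eq hp Nat.prime_two).mp (hp.dvd_of_dvd_pow h))
          · exact Or.inr (Or.inl ((Nat.prime_dvd_prime_iff_eq hp Nat.prime_three).mp (hp.dvd_of_dvd_pow h)))
        · exact Or.inr (Or.inr (Or.inl ((Nat.prime_dvd_prime_iff_eq hp Nat.prime_five).mp h)))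
      · exact Or.inr (Or.inr (Or.inr (Or.inl ((Nat.prime_dvd_prime_iff_eq hp (by norm_num)).mp h))))
    · exact Or.inr (Or.inr (Or.inr (Or.inr ((Nat.prime_dvd_prime_iff_eq hp (by norm_num)).mp h))))
  · intro h
    simp only [Finset.mem_insert, Finset.mem_singleton] at h
    rcases h with rfl | rfl | rfl | rfl | rfl <;> norm_num

/-! ### existence -/

include hF in
lemma exists_six : ∃ g : Cfsg.PSp 3 F, orderOf g = 6 := by
  haveI := charThree hF
  haveI : Fact (Nat.Prime 3) := ⟨Nat.prime_three⟩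
  have h1 : HasOrd F 2 1 := HasOrd.one (by norm_num)
  simpa using exists_psp_two_mul (two_ne_zero' hF) (le_refl 1) (by norm_num : (1 : ℕ) ≤ 2)
    (by decide : Odd 3) odd_one (hasOrd_char (F := F) 3) h1

include hF in
lemma exists_ten : ∃ g : Cfsg.PSp 3 F, orderOf g = 10 := by
  haveI := charThree hF
  haveI : Fact (Nat.Prime 3) := ⟨Nat.prime_three⟩
  have h5 : HasOrd F 2 5 := (hasOrd_add_one (F := F) (d := 2) (by norm_num)).mono (by
    rw [Nat.card_eq_fintype_card, hF]; norm_num)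
  have h1 : HasOrd F 1 1 := HasOrd.one le_rfl
  simpa using exists_psp_two_mul (two_ne_zero' hF) (by norm_num : (1 : ℕ) ≤ 2) le_rfl
    (by decide : Odd 5) odd_one h5 h1

include hF in
lemma exists_fourteen : ∃ g : Cfsg.PSp 3 F, orderOf g = 14 := by
  obtain ⟨E, hE⟩ := hasOrd_add_one (F := F) (d := 3) (by norm_num)
  refine E.exists_psp fun k hk => ?_
  rw [Nat.card_eq_fintype_card, hF] at hE
  have h2 : E.val ^ (2 * k) = 1 := by
    rw [mul_comm, pow_mul]
    rcases hk with hk | hk <;> rw [hk] <;> simp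
  have := hE.trans (orderOf_dvd_of_pow_eq_one h2)
  norm_num at this
  omega

include hF in
lemma exists_fifteen : ∃ g : Cfsg.PSp 3 F, orderOf g = 15 := by
  haveI := charThree hF
  haveI : Fact (Nat.Prime 3) := ⟨Nat.prime_three⟩
  have hk : 4 = orderOf ((Fintype.card F : ℕ) : ZMod 5) := by
    haveI : Fact (Nat.Prime 2) := ⟨Nat.prime_two⟩
    rw [hF]
    exact (orderOf_eq_prime_pow (p := 2) (n := 1) (by decide) (by decide)).symm
  by_contra hne
  have := (Cfsg.Agent.S2472.result (F := F) 3 3 (by norm_num) (by norm_num) 5 Nat.prime_five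
    (by norm_num) (by norm_num) ((primes_psp hF 5 Nat.prime_five).mpr (by simp)) 4 2 hk
    (Or.inr ⟨by decide, rfl⟩)).mp (fun ⟨g, hg⟩ => hne ⟨g, hg⟩)
  omega

/-! ### nonexistence in odd orders -/

include hF in
lemma order_data :
    (4 = orderOf ((Fintype.card F : ℕ) : ZMod 5)) ∧ (6 = orderOf ((Fintype.card F : ℕ) : ZMod 7)) ∧
      3 = orderOf ((Fintype.card F : ℕ) : ZMod 13) := by
  haveI : Fact (Nat.Prime 2) := ⟨Nat.prime_two⟩
  haveI : Fact (Nat.Prime 3) := ⟨Nat.prime_three⟩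
  rw [hF]
  refine ⟨(orderOf_eq_prime_pow (p := 2) (n := 1) (by decide) (by decide)).symm, ?_,
    (orderOf_eq_prime (by decide) (by decide)).symm⟩
  refine ((orderOf_eq_iff (by norm_num)).mpr ⟨by decide, fun k hk hk0 => ?_⟩).symm
  interval_cases k <;> decide

include hF in
lemma not_odd_edge :
    ∀ n ∈ ({21, 35, 39, 65, 91} : Finset ℕ), ¬ ∃ g : Cfsg.PSp 3 F, orderOf g = n := by
  haveI := charThree hF
  haveI : Fact (Nat.Prime 3) := ⟨Nat.prime_three⟩
  obtain ⟨h5, h7, h13⟩ := order_data hF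
  have p5 := (primes_psp hF 5 Nat.prime_five).mpr (by simp)
  have p7 := (primes_psp hF 7 (by norm_num)).mpr (by simp)
  have p13 := (primes_psp hF 13 (by norm_num)).mpr (by simp)
  intro n hn ⟨g, hg⟩
  simp only [Finset.mem_insert, Finset.mem_singleton] at hn
  rcases hn with rfl | rfl | rfl | rfl | rfl
  · exact (Cfsg.Agent.S2472.result (F := F) 3 3 (by norm_num) (by norm_num) 7 (by norm_num)
      (by norm_num) (by norm_num) p7 6 3 h7 (Or.inr ⟨by decide, rfl⟩)).mpr (by norm_num)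
      ⟨g, by rw [hg]⟩
  · refine (Cfsg.Agent.S2469.result (F := F) 3 3 (by norm_num) (by norm_num) 5 7 Nat.prime_five
      (by norm_num) (by norm_num) (by norm_num) (by norm_num) (by norm_num) (by norm_num) p5 p7
      4 6 2 3 h5 h7 (Or.inr ⟨by decide, rfl⟩) (Or.inr ⟨by decide, rfl⟩) (by norm_num)).mpr
      ⟨by norm_num, fun ⟨t, _, ht⟩ => by omega⟩ ⟨g, by rw [hg]⟩
  · exact (Cfsg.Agent.S2472.result (F := F) 3 3 (by norm_num) (by norm_num) 13 (by norm_num)
      (by norm_num) (by norm_num) p13 3 3 h13 (Or.inl ⟨by decide, rfl⟩)).mpr (by norm_num)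
      ⟨g, by rw [hg]⟩
  · refine (Cfsg.Agent.S2469.result (F := F) 3 3 (by norm_num) (by norm_num) 5 13 Nat.prime_five
      (by norm_num) (by norm_num) (by norm_num) (by norm_num) (by norm_num) (by norm_num) p5 p13
      4 3 2 3 h5 h13 (Or.inr ⟨by decide, rfl⟩) (Or.inl ⟨by decide, rfl⟩) (by norm_num)).mpr
      ⟨by norm_num, fun ⟨t, _, ht⟩ => by omega⟩ ⟨g, by rw [hg]⟩
  · refine (Cfsg.Agent.S2469.result (F := F) 3 3 (by norm_num) (by norm_num) 13 7 (by norm_num)
      (by norm_num) (by norm_num) (by norm_num) (by norm_num) (by norm_num) (by norm_num) p13 p7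
      3 6 3 3 h13 h7 (Or.inl ⟨by decide, rfl⟩) (Or.inr ⟨by decide, rfl⟩) le_rfl).mpr
      ⟨by norm_num, fun ⟨t, ho, ht⟩ => by obtain ⟨l, rfl⟩ := ho; omega⟩ ⟨g, by rw [hg]⟩

/-! ### no element of order 26 -/

local notation "V" => (Fin 3 ⊕ Fin 3 → F)

omit [Fintype F] in
/-- A three-dimensional alternating form has a radical. -/
lemma exists_radical (P : Submodule F V) (hP : finrank F P = 3) :
    ∃ w ∈ P, w ≠ 0 ∧ ∀ u ∈ P, sympB 3 F w u = 0 := by
  classical
  let b := finBasisOfFinrankEq F P hP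
  obtain ⟨e, he⟩ : ∃ e : Fin 3 → V, ∀ i, e i = (b i : V) := ⟨_, fun _ => rfl⟩
  obtain ⟨c, hc⟩ : ∃ c : Fin 3 → F, c = ![sympB 3 F (e 1) (e 2), sympB 3 F (e 2) (e 0),
    sympB 3 F (e 0) (e 1)] := ⟨_, rfl⟩
  have hspan : ∀ w : V, w ∈ P → (∀ i, sympB 3 F w (e i) = 0) → ∀ u ∈ P, sympB 3 F w u = 0 := by
    intro w _ hw u hu
    have := congrArg Subtype.val (b.sum_repr ⟨u, hu⟩)
    change _ = u at this
    rw [← this]
    simp only [Submodule.coe_sum, Submodule.coe_smul, map_sum, map_smul, ← he, hw, smul_zero,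
      Finset.sum_const_zero]
  have hs : ∀ u v : V, sympB 3 F u v = -sympB 3 F v u := fun u v => by rw [sympB_swap u v, neg_neg]
  by_cases h0 : c = 0
  · refine ⟨e 0, by rw [he]; exact (b 0).2, ?_, hspan _ (by rw [he]; exact (b 0).2) fun i => ?_⟩
    · rw [he]
      simpa using b.ne_zero 0
    · have h1 := congrFun h0 1
      have h2 := congrFun h0 2
      rw [hc] at h1 h2
      simp at h1 h2
      fin_cases i
      · exact sympB_self _
      · exact h2
      · show sympB 3 F (e 0) (e 2) = 0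
        rw [hs, h1, neg_zero]
  · obtain ⟨w, hw⟩ : ∃ w, w = ∑ i, c i • b i := ⟨_, rfl⟩
    have hwV : (w : V) = ∑ i, c i • e i := by
      simp only [hw, Submodule.coe_sum, Submodule.coe_smul, he]
    refine ⟨w, w.2, fun hz => h0 (funext fun i => ?_), hspan _ w.2 fun i => ?_⟩
    · have hz' : ∑ i, c i • b i = 0 := hw ▸ Subtype.ext hz
      exact (Fintype.linearIndependent_iff.mp b.linearIndependent) c hz' i
    · rw [hwV]
      simp only [map_sum, map_smul, LinearMap.sum_apply, LinearMap.smul_apply, smul_eq_mul,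
        Fin.sum_univ_three, hc]
      fin_cases i <;> simp [sympB_self, hs (e 1) (e 0), hs (e 2) (e 0), hs (e 2) (e 1)] <;> ring

omit [Fintype F] in
/-- Two orthogonal complements cannot be three-dimensional. -/
lemma not_three (P Q : Submodule F V) (hP : finrank F P = 3) (htop : P ⊔ Q = ⊤)
    (horth : ∀ u ∈ P, ∀ v ∈ Q, sympB 3 F u v = 0) : False := by
  obtain ⟨w, hw, hw0, hr⟩ := exists_radical P hP
  refine hw0 (sympB_nondeg w fun v => ?_)
  obtain ⟨a, ha, b, hb, rfl⟩ := Submodule.mem_sup.mp (htop ▸ Submodule.mem_top : v ∈ P ⊔ Q)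
  rw [map_add, hr a ha, horth w hw b hb, add_zero]

include hF in
/-- A subspace on which an element of order 13 acts without fixed vector. -/
lemma finrank_cases (Z : Matrix (Fin 3 ⊕ Fin 3) (Fin 3 ⊕ Fin 3) F) (hZ : Z ^ 13 = 1)
    (P : Submodule F V) (hinv : ∀ v ∈ P, Z *ᵥ v ∈ P) (hfree : ∀ v ∈ P, Z *ᵥ v = v → v = 0) :
    finrank F P = 0 ∨ finrank F P = 3 ∨ finrank F P = 6 := by
  classical
  haveI : Fact (Nat.Prime 13) := ⟨by norm_num⟩
  let f : Function.End P := fun v => ⟨Z *ᵥ v, hinv _ v.2⟩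
  have hit : ∀ (n : ℕ) (v : P), ((f ^ n) v : V) = (Z ^ n) *ᵥ (v : V) := by
    intro n
    induction n with
    | zero => intro v; simp; rfl
    | succ n ih =>
      intro v
      rw [pow_succ, pow_succ]
      show ((f ^ n) (f v) : V) = _
      rw [ih, ← Matrix.mulVec_mulVec]
  have hf : f ^ 13 ^ 1 = 1 := funext fun v => Subtype.ext (by
    rw [pow_one, hit, hZ, Matrix.one_mulVec]; rfl)
  have h := Equiv.Perm.card_fixedPoints_modEq hf
  have hone : Fintype.card f.fixedPoints = 1 := Fintype.card_eq_one_iff.mpr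
    ⟨⟨0, Subtype.ext (Matrix.mulVec_zero Z)⟩, fun ⟨v, hv⟩ =>
      Subtype.ext (Subtype.ext (hfree v v.2 (congrArg Subtype.val hv)))⟩
  rw [hone, Module.card_eq_pow_finrank (K := F), hF] at h
  have hle : finrank F P ≤ 6 := by
    have := Submodule.finrank_le P
    simpa using this
  generalize finrank F P = d at h hle
  interval_cases d <;> simp_all [Nat.ModEq]

include hF in
/-- An element of order 13 has no nonzero fixed vector. -/
lemma fixedPointFree (z : Matrix.symplecticGroup (Fin 3) F) (h13 : z ^ 13 = 1) (h1 : z ≠ 1)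
    (v : V) (hv : z.1 *ᵥ v = v) : v = 0 := by
  classical
  have h3 := three_eq_zero hF
  let D : V →ₗ[F] V := (z.1 - 1).mulVecLin
  have hD : ∀ x, D x = z.1 *ᵥ x - x := fun x => by
    simp [D, Matrix.mulVecLin_apply, Matrix.sub_mulVec]
  have hZ : z.1 ^ 13 = 1 := by
    rw [← SubmonoidClass.coe_pow, h13]; rfl
  -- fixed vectors in the image vanish
  have hfree : ∀ u ∈ LinearMap.range D, z.1 *ᵥ u = u → u = 0 := by
    rintro _ ⟨x, rfl⟩ hfix
    have hk : ∀ k : ℕ, (z.1 ^ k) *ᵥ x = x + k • D x := by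
      intro k
      induction k with
      | zero => simp
      | succ k ih =>
        rw [pow_succ', ← Matrix.mulVec_mulVec, ih, Matrix.mulVec_add, Matrix.mulVec_smul, hfix,
          show z.1 *ᵥ x = x + D x by rw [hD]; abel, succ_nsmul']
        abel
    have h := hk 13
    rw [hZ, Matrix.one_mulVec] at h
    have h' : ((13 : ℕ) : F) • D x = 0 := by
      rw [Nat.cast_smul_eq_nsmul]; exact (left_eq_add.mp h)
    have h13F : ((13 : ℕ) : F) = 1 := by push_cast; linear_combination 4 * h3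
    rwa [h13F, one_smul] at h'
  have hinv : ∀ u ∈ LinearMap.range D, z.1 *ᵥ u ∈ LinearMap.range D := by
    rintro _ ⟨x, rfl⟩
    exact ⟨z.1 *ᵥ x, by rw [hD, hD, Matrix.mulVec_sub]⟩
  have horth : ∀ w ∈ LinearMap.ker D, ∀ u ∈ LinearMap.range D, sympB 3 F w u = 0 := by
    rintro w hw _ ⟨x, rfl⟩
    rw [LinearMap.mem_ker, hD, sub_eq_zero] at hw
    have := sympB_mulVec z w x
    rw [hw] at this
    rw [hD, map_sub, this, sub_self]
  have hrn := LinearMap.finrank_range_add_finrank_ker D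
  rw [finrank_sympSpace] at hrn
  rcases finrank_cases hF z.1 hZ _ hinv hfree with hd | hd | hd
  · exfalso
    apply h1
    have hr : D = 0 := LinearMap.range_eq_bot.mp (Submodule.finrank_eq_zero.mp hd)
    refine Subtype.ext (Matrix.ext fun i j => ?_)
    have := congrFun (hD (Pi.single j 1)) i
    rw [hr] at this
    simp at this
    rw [eq_comm, sub_eq_zero] at this
    simpa [Matrix.one_apply, Pi.single_apply] using this
  · exfalso
    have hdisj : LinearMap.range D ⊓ LinearMap.ker D = ⊥ := by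
      rw [eq_bot_iff]
      rintro u ⟨hu, hu'⟩
      rw [SetLike.mem_coe, LinearMap.mem_ker, hD, sub_eq_zero] at hu'
      exact hfree u hu hu'
    have htop : LinearMap.range D ⊔ LinearMap.ker D = ⊤ := by
      refine Submodule.eq_top_of_finrank_eq ?_
      have := Submodule.finrank_sup_add_finrank_inf_eq (LinearMap.range D) (LinearMap.ker D)
      rw [hdisj, finrank_bot, add_zero] at this
      rw [this, finrank_sympSpace]
      omega
    exact not_three _ _ hd htop fun u hu w hw => by rw [sympB_swap, horth w hw u hu, neg_zero]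
  · have hk : LinearMap.ker D = ⊥ := Submodule.finrank_eq_zero.mp (by omega)
    have : v ∈ LinearMap.ker D := by rw [LinearMap.mem_ker, hD, hv, sub_self]
    rw [hk] at this
    exact (Submodule.mem_bot F).mp this

open Polynomial in
include hF in
/-- An element commuting with one of order 13 and squaring to `±1` is `±1`. -/
lemma eq_pm_one (z t : Matrix.symplecticGroup (Fin 3) F) (h13 : z ^ 13 = 1) (h1 : z ≠ 1)
    (hzt : z * t = t * z) (htt : t.1 ^ 2 = 1 ∨ t.1 ^ 2 = -1) : t.1 = 1 ∨ t.1 = -1 := by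
  classical
  have h3 := three_eq_zero hF
  have h2 := two_ne_zero' hF
  have hfix := fixedPointFree hF z h13 h1
  have hZ : z.1 ^ 13 = 1 := by rw [← SubmonoidClass.coe_pow, h13]; rfl
  have hzt' : z.1 * t.1 = t.1 * z.1 := congrArg Subtype.val hzt
  rcases htt with ht | ht
  · -- the two eigenspaces
    let P : Submodule F V := LinearMap.ker (t.1 - 1).mulVecLin
    let Q : Submodule F V := LinearMap.ker (t.1 + 1).mulVecLin
    have hP : ∀ v, v ∈ P ↔ t.1 *ᵥ v = v := fun v => by
      simp [P, Matrix.sub_mulVec, sub_eq_zero]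
    have hQ : ∀ v, v ∈ Q ↔ t.1 *ᵥ v = -v := fun v => by
      simp [Q, Matrix.add_mulVec, eq_neg_iff_add_eq_zero]
    have htv : ∀ v, t.1 *ᵥ (t.1 *ᵥ v) = v := fun v => by
      rw [Matrix.mulVec_mulVec, ← sq, ht, Matrix.one_mulVec]
    have htop : P ⊔ Q = ⊤ := by
      rw [eq_top_iff]
      intro v _
      have : v = (2 : F) • (v + t.1 *ᵥ v) + (2 : F) • (v - t.1 *ᵥ v) := by
        rw [← smul_add, show v + t.1 *ᵥ v + (v - t.1 *ᵥ v) = (2 : F) • v by rw [two_smul]; abel,
          smul_smul, show (2 : F) * 2 = 1 by linear_combination h3, one_smul]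
      rw [this]
      refine Submodule.add_mem_sup (Submodule.smul_mem _ _ ((hP _).mpr ?_))
        (Submodule.smul_mem _ _ ((hQ _).mpr ?_))
      · rw [Matrix.mulVec_add, htv, add_comm]
      · rw [Matrix.mulVec_sub, htv, neg_sub]
    have horth : ∀ u ∈ P, ∀ v ∈ Q, sympB 3 F u v = 0 := by
      intro u hu v hv
      have := sympB_mulVec t u v
      rw [(hP u).mp hu, (hQ v).mp hv, map_neg] at this
      have h : (2 : F) * sympB 3 F u v = 0 := by linear_combination -this
      exact (mul_eq_zero.mp h).resolve_left h2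
    have hinv : ∀ v ∈ P, z.1 *ᵥ v ∈ P := fun v hv => (hP _).mpr (by
      rw [Matrix.mulVec_mulVec, ← hzt', ← Matrix.mulVec_mulVec, (hP v).mp hv])
    rcases finrank_cases hF z.1 hZ P hinv (fun v _ hv => hfix v hv) with hd | hd | hd
    · right
      have hbot : P = ⊥ := Submodule.finrank_eq_zero.mp hd
      rw [hbot, bot_sup_eq] at htop
      refine Matrix.ext_of_mulVec_single fun i => ?_
      rw [(hQ _).mp (htop ▸ Submodule.mem_top), Matrix.neg_mulVec, Matrix.one_mulVec]
    · exact absurd (not_three P Q hd htop horth) not_false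
    · left
      have htop' : P = ⊤ := Submodule.eq_top_of_finrank_eq (by rw [hd, finrank_sympSpace])
      refine Matrix.ext_of_mulVec_single fun i => ?_
      rw [(hP _).mp (htop' ▸ Submodule.mem_top), Matrix.one_mulVec]
  · exfalso
    obtain ⟨f, hfdef⟩ : ∃ f : F → F → Matrix (Fin 3 ⊕ Fin 3) (Fin 3 ⊕ Fin 3) F,
        ∀ a b, f a b = z.1 ^ 3 + a • z.1 ^ 2 + b • z.1 - 1 := ⟨_, fun _ _ => rfl⟩
    have hprod : f (-1) (-1) * f 0 (-1) * f 1 0 * f 1 1 * (z.1 - 1) = 0 := by
      have hid : ((X ^ 3 + C (-1) * X ^ 2 + C (-1) * X - 1) * (X ^ 3 + C 0 * X ^ 2 + C (-1) * X - 1) *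
          (X ^ 3 + C 1 * X ^ 2 + C 0 * X - 1) * (X ^ 3 + C 1 * X ^ 2 + C 1 * X - 1) * (X - 1) : F[X]) =
          X ^ 13 - 1 := by
        have h3' : (3 : F[X]) = 0 := by
          rw [← map_ofNat (C : F →+* F[X]) 3, h3, map_zero]
        simp only [map_neg, map_one, map_zero]
        linear_combination ((X - 1) * (-X ^ 2 - 3 * X ^ 3 - 2 * X ^ 4 + 2 * X ^ 5 + 5 * X ^ 6 +
          2 * X ^ 7 - 2 * X ^ 8 - 3 * X ^ 9 - X ^ 10)) * h3'
      have := congrArg (aeval z.1) hid
      simp only [map_mul, map_sub, map_add, map_pow, aeval_C, aeval_X, map_one, hZ, sub_self,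
        ← Algebra.smul_def] at this
      simpa only [hfdef, neg_smul, one_smul, one_mul, zero_smul] using this
    obtain ⟨a, b, hab, hni⟩ : ∃ a b, ((a = -1 ∧ b = -1) ∨ (a = 0 ∧ b = -1) ∨ (a = 1 ∧ b = 0) ∨
        (a = 1 ∧ b = 1)) ∧ ∃ v : V, v ≠ 0 ∧ f a b *ᵥ v = 0 := by
      by_contra hne
      push Not at hne
      obtain ⟨v, hv⟩ : ∃ v : V, v ≠ 0 := exists_ne 0
      obtain ⟨u, hu⟩ : ∃ u, u = (z.1 - 1) *ᵥ v := ⟨_, rfl⟩
      have hu0 : u ≠ 0 := fun h => hv (hfix v (by
        rw [hu, Matrix.sub_mulVec, Matrix.one_mulVec, sub_eq_zero] at h; exact h))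
      have := congrArg (fun M => M *ᵥ v) hprod
      simp only [← Matrix.mulVec_mulVec, Matrix.zero_mulVec, ← hu] at this
      exact hne _ _ (Or.inl ⟨rfl, rfl⟩) _ (hne _ _ (Or.inr (Or.inl ⟨rfl, rfl⟩)) _
        (hne _ _ (Or.inr (Or.inr (Or.inl ⟨rfl, rfl⟩))) _
          (hne _ _ (Or.inr (Or.inr (Or.inr ⟨rfl, rfl⟩))) u hu0))) this
    let P : Submodule F V := LinearMap.ker (f a b).mulVecLin
    have hP : ∀ v, v ∈ P ↔ f a b *ᵥ v = 0 := fun v => by simp [P]
    have hcz : f a b * z.1 = z.1 * f a b := by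
      rw [hfdef]
      simp only [add_mul, sub_mul, mul_add, mul_sub, one_mul, mul_one, smul_mul_assoc,
        mul_smul_comm, ← pow_succ, ← pow_succ', ← sq]
    have hct : f a b * t.1 = t.1 * f a b := by
      have hc : Commute z.1 t.1 := hzt'
      rw [hfdef]
      exact ((((hc.pow_left 3).add_left ((hc.pow_left 2).smul_left a)).add_left
        (hc.smul_left b)).sub_left (Commute.one_left _)).eq
    have hinvz : ∀ v ∈ P, z.1 *ᵥ v ∈ P := fun v hv => (hP _).mpr (by
      rw [Matrix.mulVec_mulVec, hcz, ← Matrix.mulVec_mulVec, (hP v).mp hv, Matrix.mulVec_zero])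
    have hinvt : ∀ v ∈ P, t.1.mulVecLin v ∈ P := fun v hv => (hP _).mpr (by
      rw [Matrix.mulVecLin_apply, Matrix.mulVec_mulVec, hct, ← Matrix.mulVec_mulVec, (hP v).mp hv,
        Matrix.mulVec_zero])
    obtain ⟨v₀, hv₀, hfv₀⟩ := hni
    rcases finrank_cases hF z.1 hZ P hinvz (fun v _ hv => hfix v hv) with hd | hd | hd
    · have hm := (hP v₀).mpr hfv₀
      rw [Submodule.finrank_eq_zero.mp hd] at hm
      exact hv₀ ((Submodule.mem_bot F).mp hm)
    · let T : P →ₗ[F] P := t.1.mulVecLin.restrict hinvt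
      have hT : T * T = -1 := by
        refine LinearMap.ext fun v => Subtype.ext ?_
        show t.1 *ᵥ (t.1 *ᵥ (v : V)) = -(v : V)
        rw [Matrix.mulVec_mulVec, ← sq, ht, Matrix.neg_mulVec, Matrix.one_mulVec]
      have hdet := congrArg LinearMap.det hT
      rw [map_mul, show (-1 : P →ₗ[F] P) = (-1 : F) • (1 : P →ₗ[F] P) from (neg_one_smul F (1 : P →ₗ[F] P)).symm,
        LinearMap.det_smul, hd, map_one, mul_one, ← sq, show ((-1 : F)) ^ 3 = -1 by ring] at hdet
      exact sq_ne_neg_one hF _ hdet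
    · have hall : ∀ v, f a b *ᵥ v = 0 := fun v => (hP v).mp (by
        rw [Submodule.eq_top_of_finrank_eq (S := P) (by rw [hd, finrank_sympSpace])]
        exact Submodule.mem_top)
      obtain ⟨u, hu⟩ : ∃ v : V, v ≠ 0 := exists_ne 0
      have hrev : ∀ v, v + a • (z.1 *ᵥ v) + b • ((z.1 ^ 2) *ᵥ v) - (z.1 ^ 3) *ᵥ v = 0 := by
        intro v
        refine sympB_nondeg _ fun x => ?_
        have hpres : ∀ k (p q : V), sympB 3 F ((z.1 ^ k) *ᵥ p) ((z.1 ^ k) *ᵥ q) = sympB 3 F p q := by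
          intro k p q
          rw [← SubmonoidClass.coe_pow]; exact sympB_mulVec _ _ _
        have h := congrArg (fun w => sympB 3 F w ((z.1 ^ 3) *ᵥ v)) (hall x)
        simp only [hfdef, Matrix.sub_mulVec, Matrix.add_mulVec, Matrix.smul_mulVec, Matrix.one_mulVec,
          map_add, map_sub, map_smul, LinearMap.add_apply, LinearMap.sub_apply, LinearMap.smul_apply,
          map_zero, LinearMap.zero_apply] at h
        rw [show (z.1 ^ 3) = z.1 ^ 3 from rfl, hpres 3 x v] at h
        rw [show (z.1 ^ 3) *ᵥ v = (z.1 ^ 2) *ᵥ (z.1 *ᵥ v) by rw [Matrix.mulVec_mulVec, ← pow_succ],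
          hpres 2 x (z.1 *ᵥ v)] at h
        rw [show (z.1 ^ 2) *ᵥ (z.1 *ᵥ v) = z.1 *ᵥ ((z.1 ^ 2) *ᵥ v) by
          rw [Matrix.mulVec_mulVec, Matrix.mulVec_mulVec, ← pow_succ, ← pow_succ']] at h
        rw [sympB_mulVec z x ((z.1 ^ 2) *ᵥ v), show z.1 *ᵥ ((z.1 ^ 2) *ᵥ v) = (z.1 ^ 3) *ᵥ v by
          rw [Matrix.mulVec_mulVec, ← pow_succ']] at h
        rw [sympB_swap]
        simp only [map_add, map_sub, map_smul, smul_eq_mul, neg_eq_zero] at h ⊢
        linear_combination h
      have e1 : (z.1 ^ 3) *ᵥ u + a • ((z.1 ^ 2) *ᵥ u) + b • (z.1 *ᵥ u) - u = 0 := by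
        have := hall u
        rwa [hfdef, Matrix.sub_mulVec, Matrix.add_mulVec, Matrix.add_mulVec, Matrix.smul_mulVec,
          Matrix.smul_mulVec, Matrix.one_mulVec] at this
      have e2 : (a + b) • ((z.1 ^ 2) *ᵥ u + z.1 *ᵥ u) = 0 := by
        have := congrArg₂ (· + ·) e1 (hrev u)
        simp only [add_zero] at this
        rw [← this]; module
      have hab' : a + b ≠ 0 := by
        rcases hab with ⟨rfl, rfl⟩ | ⟨rfl, rfl⟩ | ⟨rfl, rfl⟩ | ⟨rfl, rfl⟩
        · intro h; exact h2 (by linear_combination -h)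
        · simp
        · simp
        · intro h; exact h2 (by linear_combination h)
      have e3 := (smul_eq_zero.mp e2).resolve_left hab'
      -- `z (z + 1) u = 0`, so `z` negates the nonzero vector `z u`
      obtain ⟨w, hw⟩ : ∃ w, w = z.1 *ᵥ u := ⟨_, rfl⟩
      have hzw : z.1 *ᵥ w = -w := by
        rw [eq_neg_iff_add_eq_zero, hw, Matrix.mulVec_mulVec, ← sq]; exact e3
      have hk : ∀ k : ℕ, (z.1 ^ k) *ᵥ w = ((-1 : F) ^ k) • w := by
        intro k
        induction k with
        | zero => simp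
        | succ k ih =>
          rw [pow_succ', ← Matrix.mulVec_mulVec, ih, Matrix.mulVec_smul, hzw, smul_neg, pow_succ,
            mul_neg_one, neg_smul]
      have h13w := hk 13
      rw [hZ, Matrix.one_mulVec, Odd.neg_one_pow (by decide), neg_one_smul, ← hzw] at h13w
      have hw0 : w = 0 := hfix w h13w.symm
      apply hu
      have := congrArg (fun x => (z.1 ^ 12) *ᵥ x) hw0
      rw [hw, Matrix.mulVec_mulVec, ← pow_succ, hZ, Matrix.one_mulVec, Matrix.mulVec_zero] at this
      exact this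

include hF in
lemma not_26 : ¬ ∃ g : Cfsg.PSp 3 F, orderOf g = 26 := by
  rintro ⟨x, hx⟩
  obtain ⟨g, rfl⟩ := QuotientGroup.mk_surjective x
  have hcen : g ^ 26 ∈ Subgroup.center (Matrix.symplecticGroup (Fin 3) F) := by
    rw [← QuotientGroup.eq_one_iff, QuotientGroup.mk_pow, ← hx, pow_orderOf_eq_one]
  have h52 : g ^ 52 = 1 := by
    refine Subtype.ext ?_
    rw [show (52 : ℕ) = 26 * 2 from rfl, pow_mul, SubmonoidClass.coe_pow]
    rcases center_Sp.1 hcen with h | h <;> rw [h] <;> simp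
  have hz1 : g ^ 4 ≠ 1 := by
    intro h
    have := orderOf_dvd_of_pow_eq_one (show ((g : Cfsg.PSp 3 F)) ^ 4 = 1 by
      rw [← QuotientGroup.mk_pow, h]; rfl)
    rw [hx] at this
    norm_num at this
  have ht2 : (g ^ 13).1 ^ 2 = 1 ∨ (g ^ 13).1 ^ 2 = -1 := by
    rw [← SubmonoidClass.coe_pow, ← pow_mul]
    exact center_Sp.1 hcen
  have := eq_pm_one hF (g ^ 4) (g ^ 13) (by rw [← pow_mul]; exact h52) hz1
    (by rw [← pow_add, ← pow_add]) ht2
  have h13 := orderOf_dvd_of_pow_eq_one (show ((g : Cfsg.PSp 3 F)) ^ 13 = 1 by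
    rw [← QuotientGroup.mk_pow, QuotientGroup.eq_one_iff]; exact center_Sp.2 this)
  rw [hx] at h13
  norm_num at h13

include hF in
/-- The edges of the prime graph. -/
theorem edges_psp (p q : ℕ) (hp : p.Prime) (hq : q.Prime) (hpq : p ≠ q) :
    (∃ g : Cfsg.PSp 3 F, orderOf g = p * q) ↔ p * q ∈ ({6, 10, 14, 15} : Finset ℕ) := by
  constructor
  · rintro ⟨g, hg⟩
    have hp' := (primes_psp hF p hp).mp ((dvd_mul_right p q).trans (hg ▸ orderOf_dvd_natCard g))
    have hq' := (primes_psp hF q hq).mp ((dvd_mul_left q p).trans (hg ▸ orderOf_dvd_natCard g))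
    by_contra hne
    have hodd := not_odd_edge hF (p * q)
    have h26 := not_26 hF
    simp only [Finset.mem_insert, Finset.mem_singleton] at hp' hq' hne hodd
    rcases hp' with rfl | rfl | rfl | rfl | rfl <;> rcases hq' with rfl | rfl | rfl | rfl | rfl <;>
      first
        | exact hpq rfl
        | exact h26 ⟨g, hg⟩
        | (exfalso; apply hne; norm_num; done)
        | (exfalso; refine hodd ?_ ⟨g, hg⟩; norm_num; done)
  · intro h
    simp only [Finset.mem_insert, Finset.mem_singleton] at h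
    rcases h with h | h | h | h <;> rw [h]
    · exact exists_six hF
    · exact exists_ten hF
    · exact exists_fourteen hF
    · exact exists_fifteen hF

end Cfsg.Agent.PrimeGraph.PSpSixThree
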