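import Cfsg.Agent.Lib.PrimeGraph.ModuleExtension
import Cfsg.Agent.Lib.Suzuki.Parts
import Cfsg.Agent.Lib.Suzuki.FieldMap
import Cfsg.Agent.Lib.Suzuki.SylowAut

/-!
# Groups `M₄(8)^N ⋊ Aut Sz(8)`

`exists_large`: arbitrarily large groups whose prime divisors are `2, 3, 5, 7, 13` and whose
prime graph edges are exactly the pairs with product in `{6, 10, 14, 15}`.
-/

set_option autoImplicit false
set_option linter.style.haveILetI false

namespace Cfsg.Agent.PrimeGraph.SzEight

open Cfsg Cfsg.Agent.Suzuki Polynomial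
open scoped Matrix

variable {F : Type} [Field F] [Fintype F] (hF : Fintype.card F = 2 ^ (2 * 1 + 1))

/-- `Aut Sz(8)`. -/
abbrev Grp := Cfsg.Sz F 1 ⋊[fieldAutHom le_rfl hF] RingAut F

lemma mat_fieldAut (τ : RingAut F) (g : Cfsg.Sz F 1) :
    mat (fieldAut le_rfl hF τ g) = (mat g).map τ := rfl

lemma mat_fieldAutHom (τ : RingAut F) (g : Cfsg.Sz F 1) :
    mat (fieldAutHom le_rfl hF τ g) = (mat g).map τ := rfl

include hF in
lemma card_autF : Nat.card (RingAut F) = 3 := SylowAut.card_ringAut hF

include hF in
lemma card_sz8 : Nat.card (Cfsg.Sz F 1) = 29120 := by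
  rw [card_sz le_rfl hF]; norm_num

include hF in
lemma finite_grp : Finite (Grp hF) := by
  haveI : Finite (RingAut F) := Nat.finite_of_card_ne_zero (by rw [card_autF hF]; norm_num)
  exact Finite.of_equiv _ SemidirectProduct.equivProd.symm

include hF in
lemma card_grp : Nat.card (Grp hF) = 29120 * 3 := by
  rw [SemidirectProduct.card, card_sz8 hF, card_autF hF]

include hF in
/-- The orders of elements of `Sz(8)`. -/
lemma order_cases (h : Cfsg.Sz F 1) : orderOf h ∣ 64 ∨ orderOf h ∣ 7 ∨ orderOf h ∣ 13 ∨ orderOf h ∣ 5 := by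
  rcases eq_or_ne h 1 with rfl | h1
  · simp
  rcases centralizer_cases le_rfl hF h1 with ⟨s, hs⟩ | ⟨-, -, hc⟩
  · left
    have := Subgroup.orderOf_dvd_natCard _ (hs (Subgroup.mem_centralizer_singleton_iff.mpr rfl : h ∈ _))
    rwa [Subgroup.card_map_of_injective (MulAut.conj s).injective, card_uSub hF] at this
  · have hd := Subgroup.orderOf_dvd_natCard (Subgroup.centralizer {h})
      (Subgroup.mem_centralizer_singleton_iff.mpr rfl : h ∈ Subgroup.centralizer {h})
    simp only [Set.mem_insert_iff, Set.mem_singleton_iff] at hc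
    rcases hc with hc | hc | hc <;> rw [hc] at hd
    · exact Or.inr (Or.inl hd)
    · exact Or.inr (Or.inr (Or.inl hd))
    · exact Or.inr (Or.inr (Or.inr hd))

include hF in
lemma ringAut_fixed {τ : RingAut F} (hτ : τ ≠ 1) {x : F} (hx : τ x = x) : x = 0 ∨ x = 1 := by
  haveI := charTwo hF
  haveI : Fact (Nat.Prime 3) := ⟨Nat.prime_three⟩
  let fr : RingAut F := RingEquiv.ofBijective (frobenius F 2) (bijective_frobenius F 2)
  have hmem : fr ∈ Subgroup.zpowers τ := mem_zpowers_of_prime_card (card_autF hF) hτ
  let S : Subgroup (RingAut F) :=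
    { carrier := {σ | σ x = x}
      one_mem' := rfl
      mul_mem' := fun {a b} (ha : a x = x) (hb : b x = x) => by
        show a (b x) = x; rw [hb, ha]
      inv_mem' := fun {a} (ha : a x = x) => by
        show a.symm x = x
        rw [RingEquiv.symm_apply_eq, ha] }
  have h2 : x ^ 2 = x := (Subgroup.zpowers_le.mpr (show τ ∈ S from hx)) hmem
  have : x * (x - 1) = 0 := by linear_combination h2
  rcases mul_eq_zero.mp this with h | h
  · exact Or.inl h
  · exact Or.inr (sub_eq_zero.mp h)

lemma natDegree_le (h : Cfsg.Sz F 1) : (mat h).charpoly.natDegree = 4 := by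
  rw [Matrix.charpoly_natDegree_eq_dim]; rfl

lemma charpoly_conj (a h : Cfsg.Sz F 1) : (mat (a * h * a⁻¹)).charpoly = (mat h).charpoly := by
  rw [mat_mul, mat_mul, Matrix.charpoly_mul_comm, ← mul_assoc, ← mat_mul, inv_mul_cancel, mat_one,
    one_mul]

include hF in
/-- No automorphism outside `Sz(8)` fixes an element of order `13`. -/
lemma no_fixed_thirteen {τ : RingAut F} (hτ : τ ≠ 1) {a h : Cfsg.Sz F 1} (hh : orderOf h = 13)
    (hfix : a * fieldAut le_rfl hF τ h * a⁻¹ = h) : False := by
  classical
  haveI := charTwo hF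
  have hcoef : ∀ i, ((mat h).charpoly.coeff i) ^ 2 = (mat h).charpoly.coeff i := by
    intro i
    have := congrArg (fun g : Cfsg.Sz F 1 => (mat g).charpoly.coeff i) hfix
    simp only [charpoly_conj, mat_fieldAut] at this
    rw [show (mat h).map (τ : F → F) = (mat h).map (τ.toRingHom : F →+* F) from rfl,
      Matrix.charpoly_map, Polynomial.coeff_map] at this
    rcases ringAut_fixed hF hτ this with e | e <;> rw [e] <;> simp
  have h1 : h ≠ 1 := fun e => by simp [e] at hh
  have hfpf : FPF h := by
    rcases mem_cases le_rfl hF h1 with ⟨hu, -, -⟩ | ⟨-, hd, -⟩ | ⟨-, -, hf⟩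
    · have := orderOf_dvd_of_conjSet_uSub hF hu
      rw [hh] at this; norm_num at this
    · obtain ⟨s, c, hc, -, rfl⟩ := hd
      rw [show s * c * s⁻¹ = MulAut.conj s c from rfl, MulEquiv.orderOf_eq] at hh
      have := Subgroup.orderOf_dvd_natCard _ hc
      rw [hh, card_dSub hF] at this; norm_num at this
    · exact hf
  letI : Field (commAlg h) := (commAlg_isField le_rfl hF hfpf).toField
  haveI : CharP (commAlg h) 2 :=
    charP_of_injective_algebraMap (algebraMap F (commAlg h)).injective 2
  obtain ⟨A, hA⟩ : ∃ A : commAlg h, (A : Matrix (Fin 4) (Fin 4) F) = mat h :=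
    ⟨⟨mat h, (Subalgebra.mem_centralizer_iff F).mpr fun y hy => by
      rw [Set.mem_singleton_iff] at hy; rw [hy]⟩, rfl⟩
  set P := (mat h).charpoly.map (algebraMap F (commAlg h)) with hP
  have hPA : P.eval A = 0 := by
    rw [hP, Polynomial.eval_map_algebraMap]
    apply Subtype.ext
    rw [← Subalgebra.coe_val, ← Polynomial.aeval_algHom_apply, Subalgebra.coe_val, hA,
      Matrix.aeval_self_charpoly]
    rfl
  have hfr : P.map (frobenius (commAlg h) 2) = P := by
    ext i
    rw [Polynomial.coeff_map, hP, Polynomial.coeff_map, frobenius_def, ← map_pow, hcoef]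
  have hroots : ∀ i : ℕ, P.eval (A ^ 2 ^ i) = 0 := by
    intro i
    induction i with
    | zero => simpa using hPA
    | succ i ih =>
      have := Polynomial.eval_map_apply (p := P) (frobenius (commAlg h) 2) (A ^ 2 ^ i)
      rw [hfr, ih, map_zero, frobenius_def, ← pow_mul, ← pow_succ] at this
      exact this
  have hinj : Function.Injective (fun i : Fin 5 => A ^ 2 ^ (i : ℕ)) := by
    intro i j hij
    have hm : h ^ 2 ^ (i : ℕ) = h ^ 2 ^ (j : ℕ) := by
      apply mat_injective
      rw [mat_pow, mat_pow, ← hA, ← SubmonoidClass.coe_pow, ← SubmonoidClass.coe_pow]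
      exact congrArg Subtype.val hij
    rw [pow_eq_pow_iff_modEq, hh] at hm
    exact (by decide : ∀ i j : Fin 5, 2 ^ (i : ℕ) ≡ 2 ^ (j : ℕ) [MOD 13] → i = j) i j hm
  have hP0 : P = 0 := by
    refine Polynomial.eq_zero_of_natDegree_lt_card_of_eval_eq_zero P hinj (fun i => hroots i) ?_
    refine lt_of_le_of_lt Polynomial.natDegree_map_le ?_
    rw [natDegree_le]; simp
  exact ((Matrix.charpoly_monic (mat h)).map _).ne_zero hP0

include hF in
/-- No automorphism outside `Sz(8)` fixes an element of order `7`. -/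
lemma no_fixed_seven {τ : RingAut F} (hτ : τ ≠ 1) {a h : Cfsg.Sz F 1} (hh : orderOf h = 7)
    (hfix : a * fieldAut le_rfl hF τ h * a⁻¹ = h) : False := by
  classical
  haveI := charTwo hF
  have h1 : h ≠ 1 := fun e => by simp [e] at hh
  have htr : (mat h).trace = 0 ∨ (mat h).trace = 1 := by
    refine ringAut_fixed hF hτ ?_
    have := congrArg (fun g : Cfsg.Sz F 1 => (mat g).trace) hfix
    rw [mat_mul, mat_mul, Matrix.trace_mul_comm, ← mul_assoc, ← mat_mul, inv_mul_cancel, mat_one,
      one_mul, mat_fieldAut] at this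
    exact (by simp [Matrix.trace, map_sum] : τ (mat h).trace = ((mat h).map τ).trace).trans this
  rcases mem_cases le_rfl hF h1 with ⟨hu, -, -⟩ | ⟨-, hd, -⟩ | ⟨-, -, hf⟩
  · have := orderOf_dvd_of_conjSet_uSub hF hu
    rw [hh] at this; norm_num at this
  · obtain ⟨s, c, hc, hc1, rfl⟩ := hd
    obtain ⟨k, rfl⟩ := (mem_dSub hF).mp hc
    rw [mat_mul, mat_mul, Matrix.trace_mul_comm, ← mul_assoc, ← mat_mul, inv_mul_cancel, mat_one,
      one_mul, show mat (dSz hF k) = Matrix.diagonal (dVec 1 k) from rfl, Matrix.trace_diagonal] at htr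
    have hk1 : (k : F) ≠ 1 := fun e => hc1 (by rw [show k = 1 from Units.ext e, dSz_one])
    have hk0 := k.ne_zero
    have hk7 : (k : F) ^ 7 = 1 := by
      have := FiniteField.pow_card_sub_one_eq_one (k : F) hk0
      rwa [hF] at this
    simp only [Fin.sum_univ_four, dVec] at htr
    simp only [Matrix.cons_val_zero, Matrix.cons_val_one, Matrix.cons_val] at htr
    obtain ⟨u, hu⟩ : ∃ u, u = (k : F) + (k : F)⁻¹ := ⟨_, rfl⟩
    have hsum : (k : F) ^ 2 ^ 1 * k + (k : F) ^ 2 ^ 1 + ((k : F) ^ 2 ^ 1)⁻¹ +
        ((k : F) ^ 2 ^ 1 * k)⁻¹ = (u + u ^ 2) ^ 2 := by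
      have e4 : ((k : F)⁻¹) ^ 4 = (k : F) ^ 3 := by
        rw [inv_pow]; exact inv_eq_of_mul_eq_one_right (by rw [← pow_add]; exact hk7)
      have e4' : (k : F) ^ 4 = ((k : F) ^ 3)⁻¹ := by
        exact (inv_eq_of_mul_eq_one_right (by rw [← pow_add]; exact hk7)).symm
      have hsq : (u + u ^ 2) ^ 2 = (k : F) ^ 2 + ((k : F)⁻¹) ^ 2 + ((k : F) ^ 4 + ((k : F)⁻¹) ^ 4) := by
        rw [hu]; simp only [CharTwo.add_sq]; ring
      rw [hsq, e4, e4', pow_one, inv_pow]
      rw [show (k : F) ^ 2 * k = (k : F) ^ 3 by ring]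
      ring
    rw [hsum] at htr
    have hv : (u + u ^ 2) = 0 ∨ (u + u ^ 2) = 1 := by
      rcases htr with e | e
      · exact Or.inl (pow_eq_zero_iff two_ne_zero |>.mp e)
      · refine Or.inr (frobenius_inj F 2 ?_)
        simpa [frobenius_def] using e
    rcases hv with e | e
    · have : u * (u + 1) = 0 := by linear_combination e
      rcases mul_eq_zero.mp this with e' | e'
      · rw [hu] at e'
        field_simp at e'
        have : ((k : F) - 1) * ((k : F) - 1) = 0 := by grind
        exact hk1 (sub_eq_zero.mp (mul_self_eq_zero.mp this))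
      · rw [hu] at e'
        field_simp at e'
        exact sq_add_add_one hF (k : F) (by grind)
    · exact sq_add_add_one hF u (by grind)
  · have := orderOf_dvd_of_fpf le_rfl hF hf
    rw [hh] at this; norm_num at this
where
  sq_add_add_one (hF : Fintype.card F = 2 ^ (2 * 1 + 1)) (x : F) : x ^ 2 + x + 1 ≠ 0 := by
    intro h
    have h3 : x ^ 3 = 1 := by linear_combination (x - 1) * h
    have hx : x ≠ 0 := fun h0 => by simp [h0] at h
    have h7 := FiniteField.pow_card_sub_one_eq_one x hx
    rw [hF] at h7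
    haveI := charTwo hF
    norm_num at h7
    have : x = 1 := by
      calc x = x * (x ^ 3) ^ 2 := by rw [h3]; ring
        _ = x ^ 7 := by ring
        _ = 1 := h7
    subst this
    grind

include hF in
/-- Element orders of `Aut Sz(8)` with two odd primes. -/
lemma no_edge (x : Grp hF) {n : ℕ} (hn : n ∈ ({21, 39, 35, 65, 91, 26} : Finset ℕ)) :
    orderOf x ≠ n := by
  classical
  haveI := finite_grp hF
  intro hx
  have hsz : ∀ h : Cfsg.Sz F 1, orderOf h ≠ 35 ∧ orderOf h ≠ 65 ∧ orderOf h ≠ 91 ∧ orderOf h ≠ 26 ∧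
      orderOf h ≠ 3 := by
    intro h
    rcases order_cases hF h with hd | hd | hd | hd <;>
      refine ⟨?_, ?_, ?_, ?_, ?_⟩ <;> intro he <;> rw [he] at hd <;> norm_num at hd
  have h3 : ∀ y : Grp hF, (orderOf y).Coprime 3 → ∃ h : Cfsg.Sz F 1, y = SemidirectProduct.inl h := by
    intro y hy
    have hr : y.right = 1 := by
      refine orderOf_eq_one_iff.mp (Nat.eq_one_of_dvd_coprimes hy
        (orderOf_map_dvd SemidirectProduct.rightHom y) ?_)
      rw [← card_autF hF]; exact orderOf_dvd_natCard _
    exact ⟨y.left, SemidirectProduct.ext (by simp) (by simp [hr])⟩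
  simp only [Finset.mem_insert, Finset.mem_singleton] at hn
  by_cases hc : Nat.Coprime n 3
  · obtain ⟨h, rfl⟩ := h3 x (hx ▸ hc)
    rw [orderOf_injective _ SemidirectProduct.inl_injective] at hx
    obtain ⟨a, b, c, d, -⟩ := hsz h
    rcases hn with rfl | rfl | rfl | rfl | rfl | rfl <;> first | omega | norm_num at hc
  obtain ⟨s, hs, rfl⟩ : ∃ s, (s = 7 ∨ s = 13) ∧ n = 3 * s := by
    rcases hn with rfl | rfl | rfl | rfl | rfl | rfl
    · exact ⟨7, Or.inl rfl, rfl⟩
    · exact ⟨13, Or.inr rfl, rfl⟩
    all_goals exact absurd (by norm_num) hc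
  have hs0 : s ≠ 0 := by omega
  have hy : orderOf (x ^ s) = 3 := by
    rw [orderOf_pow_of_dvd hs0 (hx ▸ dvd_mul_left s 3), hx, Nat.mul_div_cancel _ (by omega)]
  have hz : orderOf (x ^ 3) = s := by
    rw [orderOf_pow_of_dvd (by norm_num) (hx ▸ dvd_mul_right 3 s), hx,
      Nat.mul_div_cancel_left _ (by norm_num)]
  obtain ⟨h, hh⟩ := h3 (x ^ 3) (by rw [hz]; rcases hs with rfl | rfl <;> norm_num)
  rw [hh, orderOf_injective _ SemidirectProduct.inl_injective] at hz
  have hτ : (x ^ s).right ≠ 1 := by
    intro hr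
    have he : x ^ s = SemidirectProduct.inl (x ^ s).left :=
      SemidirectProduct.ext (by simp) (by simp [hr])
    rw [he, orderOf_injective _ SemidirectProduct.inl_injective] at hy
    exact (hsz _).2.2.2.2 hy
  have hcomm : x ^ s * (SemidirectProduct.inl h : Grp hF) = SemidirectProduct.inl h * x ^ s := by
    rw [← hh, ← pow_add, ← pow_add, add_comm]
  have h2 := congrArg SemidirectProduct.left hcomm
  simp only [SemidirectProduct.mul_left, SemidirectProduct.left_inl, SemidirectProduct.right_inl,
    map_one, MulAut.one_apply] at h2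
  have hfix : (x ^ s).left * fieldAut le_rfl hF (x ^ s).right h * (x ^ s).left⁻¹ = h :=
    mul_inv_eq_iff_eq_mul.mpr h2
  rcases hs with rfl | rfl
  · exact no_fixed_seven hF hτ hz hfix
  · exact no_fixed_thirteen hF hτ hz hfix

/-! ### the module -/

/-- The module, four by four matrices. -/
abbrev Mod (F : Type) := Matrix (Fin 4) (Fin 4) F

/-- The twisted tensor action `X ↦ A X σ(A)ᵀ`, `σ` squaring. -/
def act (g : Grp hF) (X : Mod F) : Mod F :=
  haveI := charTwo hF
  mat g.left * X.map g.right * ((mat g.left).map (frobenius F 2))ᵀ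

lemma act_one (X : Mod F) : act hF 1 X = X := by
  haveI := charTwo hF
  show mat (1 : Cfsg.Sz F 1) * X.map (1 : RingAut F) * ((mat (1 : Cfsg.Sz F 1)).map (frobenius F 2))ᵀ = X
  rw [mat_one, Matrix.map_one _ (map_zero _) (map_one _), Matrix.transpose_one, one_mul, mul_one]
  rfl

lemma act_mul (g g' : Grp hF) (X : Mod F) : act hF (g * g') X = act hF g (act hF g' X) := by
  haveI := charTwo hF
  unfold act
  rw [SemidirectProduct.mul_left, SemidirectProduct.mul_right, mat_mul, mat_fieldAutHom]
  have hmap : ∀ (τ : RingAut F) (M N : Mod F), (M * N).map τ = M.map τ * N.map τ :=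
    fun τ M N => Matrix.map_mul (f := τ.toRingHom)
  have e : ((mat g'.left).map g.right).map (frobenius F 2) =
      ((mat g'.left).map (frobenius F 2)).map g.right := by
    ext i j
    simp [frobenius_def]
  have e2 : X.map (g.right * g'.right : RingAut F) = (X.map g'.right).map g.right := by
    ext i j; rfl
  have e3 : (((mat g'.left).map (frobenius F 2))ᵀ).map g.right =
      (((mat g'.left).map (frobenius F 2)).map g.right)ᵀ := rfl
  rw [Matrix.map_mul (f := frobenius F 2), Matrix.transpose_mul, e, e2, hmap, hmap, e3]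
  simp only [mul_assoc]

lemma act_add (g : Grp hF) (X Y : Mod F) : act hF g (X + Y) = act hF g X + act hF g Y := by
  haveI := charTwo hF
  unfold act
  rw [Matrix.map_add _ (map_add g.right), mul_add, add_mul]

include hF in
/-- Elements of order 13 fix only zero. -/
lemma act_fpf (g : Grp hF) (hg : orderOf g = 13) (X : Mod F) (hX : act hF g X = X) : X = 0 := by
  classical
  haveI := charTwo hF
  haveI := finite_grp hF
  have hr : g.right = 1 := by
    refine orderOf_eq_one_iff.mp (Nat.eq_one_of_dvd_coprimes (a := 13) (b := 3) (by norm_num)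
      (hg ▸ orderOf_map_dvd SemidirectProduct.rightHom g) ?_)
    rw [← card_autF hF]; exact orderOf_dvd_natCard _
  obtain ⟨h, hh⟩ : ∃ h, h = g.left := ⟨_, rfl⟩
  have hge : g = SemidirectProduct.inl h := SemidirectProduct.ext (by simp [hh]) (by simp [hr])
  have hord : orderOf h = 13 := by
    rw [← hg, hge, orderOf_injective _ SemidirectProduct.inl_injective]
  have hX' : mat h * X * ((mat h).map (frobenius F 2))ᵀ = X := by
    have h' : mat g.left * X.map g.right * ((mat g.left).map (frobenius F 2))ᵀ = X := hX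
    rw [hr, ← hh] at h'
    exact h'
  obtain ⟨B, hB⟩ : ∃ B, B = ((mat h⁻¹).map (frobenius F 2))ᵀ := ⟨_, rfl⟩
  have hAX : mat h * X = X * B := by
    have e : ((mat h).map (frobenius F 2))ᵀ * B = 1 := by
      rw [hB, ← Matrix.transpose_mul, ← Matrix.map_mul, ← mat_mul, inv_mul_cancel, mat_one,
        Matrix.map_one _ (map_zero _) (map_one _), Matrix.transpose_one]
    calc mat h * X = mat h * X * (((mat h).map (frobenius F 2))ᵀ * B) := by rw [e, mul_one]
      _ = X * B := by rw [← mul_assoc, hX']
  -- hence `X · p(B) = p(A) X = 0`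
  set p := (mat h).charpoly with hp
  have hint : ∀ q : F[X], aeval (mat h) q * X = X * aeval B q := by
    intro q
    induction q using Polynomial.induction_on with
    | C c => simp [Algebra.algebraMap_eq_smul_one]
    | add q r hq hr => simp [add_mul, mul_add, hq, hr]
    | monomial n c hn =>
      rw [pow_succ, ← mul_assoc, map_mul (aeval (mat h)), map_mul (aeval B) (C c * Polynomial.X ^ n), aeval_X,
        aeval_X, mul_assoc, hAX, ← mul_assoc, hn, mul_assoc]
  have hXB : X * aeval B p = 0 := by
    rw [← hint, hp, Matrix.aeval_self_charpoly, zero_mul]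
  -- `p(B)` is the transpose of the image of `q(A⁻¹)`, `q^σ = p`
  let σi : F →+* F := (RingEquiv.ofBijective (frobenius F 2) (bijective_frobenius F 2)).symm.toRingHom
  obtain ⟨q, hq⟩ : ∃ q, q = p.map σi := ⟨_, rfl⟩
  have hqp : q.map (frobenius F 2) = p := by
    rw [hq, Polynomial.map_map]
    ext i
    rw [Polynomial.coeff_map]
    exact (RingEquiv.ofBijective (frobenius F 2) (bijective_frobenius F 2)).apply_symm_apply _
  have hBq : aeval B p = (((aeval (mat h⁻¹) q)).map (frobenius F 2))ᵀ := by
    rw [← hqp, hB]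
    clear hq hqp
    induction q using Polynomial.induction_on with
    | C c =>
      ext i j
      simp [Matrix.algebraMap_matrix_apply, eq_comm]
      split_ifs <;> simp
    | add q r hq hr =>
      rw [Polynomial.map_add, map_add, map_add, hq, hr, Matrix.map_add _ (map_add _),
        Matrix.transpose_add]
    | monomial n c hn =>
      rw [pow_succ, ← mul_assoc, Polynomial.map_mul,
        map_mul (aeval ((mat h⁻¹).map (frobenius F 2))ᵀ) _ (Polynomial.map (frobenius F 2) Polynomial.X),
        map_mul (aeval (mat h⁻¹)) (C c * Polynomial.X ^ n), hn, Polynomial.map_X, aeval_X, aeval_X]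
      have hcc : Commute (aeval (mat h⁻¹) (C c * Polynomial.X ^ n)) (mat h⁻¹) := by
        have : aeval (mat h⁻¹) (C c * Polynomial.X ^ n) * aeval (mat h⁻¹) (Polynomial.X : F[X]) =
            aeval (mat h⁻¹) (Polynomial.X : F[X]) * aeval (mat h⁻¹) (C c * Polynomial.X ^ n) := by
          rw [← map_mul, ← map_mul, mul_comm]
        rwa [aeval_X] at this
      rw [← Matrix.transpose_mul, ← Matrix.map_mul, hcc.eq]
  -- in the field generated by `A`
  have h1 : h ≠ 1 := fun e => by simp [e] at hord
  have hfpf : FPF h := by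
    rcases mem_cases le_rfl hF h1 with ⟨hu, -, -⟩ | ⟨-, hd, -⟩ | ⟨-, -, hf⟩
    · have := orderOf_dvd_of_conjSet_uSub hF hu
      rw [hord] at this; norm_num at this
    · obtain ⟨s, c, hc, -, rfl⟩ := hd
      rw [show s * c * s⁻¹ = MulAut.conj s c from rfl, MulEquiv.orderOf_eq] at hord
      have := Subgroup.orderOf_dvd_natCard _ hc
      rw [hord, card_dSub hF] at this; norm_num at this
    · exact hf
  letI : Field (commAlg h) := (commAlg_isField le_rfl hF hfpf).toField
  haveI : CharP (commAlg h) 2 :=
    charP_of_injective_algebraMap (algebraMap F (commAlg h)).injective 2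
  haveI : Fintype (commAlg h) := Fintype.ofFinite _
  have hmem : ∀ k : ℕ, mat (h ^ k) ∈ commAlg h := fun k =>
    (Subalgebra.mem_centralizer_iff F).mpr fun y hy => by
      rw [Set.mem_singleton_iff] at hy
      rw [hy, ← mat_mul, ← mat_mul, ← pow_succ', ← pow_succ]
  obtain ⟨A, hA⟩ : ∃ A : commAlg h, (A : Matrix (Fin 4) (Fin 4) F) = mat h :=
    ⟨⟨mat h, by simpa using hmem 1⟩, rfl⟩
  obtain ⟨P, hP⟩ : ∃ P, P = p.map (algebraMap F (commAlg h)) := ⟨_, rfl⟩
  have hPA : P.eval A = 0 := by
    rw [hP, Polynomial.eval_map_algebraMap]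
    apply Subtype.ext
    rw [← Subalgebra.coe_val, ← Polynomial.aeval_algHom_apply, Subalgebra.coe_val, hA, hp,
      Matrix.aeval_self_charpoly]
    rfl
  have hfr : P.map (iterateFrobenius (commAlg h) 2 3) = P := by
    ext i
    rw [Polynomial.coeff_map, hP, Polynomial.coeff_map, iterateFrobenius_def, ← map_pow,
      show (2 : ℕ) ^ 3 = Fintype.card F by rw [hF], FiniteField.pow_card]
  have hroots : ∀ i : ℕ, P.eval (A ^ 8 ^ i) = 0 := by
    intro i
    induction i with
    | zero => simpa using hPA
    | succ i ih =>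
      have := Polynomial.eval_map_apply (p := P) (iterateFrobenius (commAlg h) 2 3) (A ^ 8 ^ i)
      rw [hfr, ih, map_zero, iterateFrobenius_def, ← pow_mul, show (2 : ℕ) ^ 3 = 8 by norm_num,
        ← pow_succ] at this
      exact this
  have hAinv : mat h⁻¹ = mat (h ^ 12) := by
    congr 1
    refine inv_eq_of_mul_eq_one_right ?_
    rw [← pow_succ', show 12 + 1 = orderOf h by rw [hord]]; exact pow_orderOf_eq_one h
  have hA12 : ((A ^ 12 : commAlg h) : Matrix (Fin 4) (Fin 4) F) = mat h⁻¹ := by
    rw [SubmonoidClass.coe_pow, hA, ← mat_pow, hAinv]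
  have hqne : (q.map (algebraMap F (commAlg h))).eval (A ^ 12) ≠ 0 := by
    intro hq0
    have hPP : (q.map (algebraMap F (commAlg h))).map (frobenius (commAlg h) 2) = P := by
      rw [hP, ← hqp, Polynomial.map_map, Polynomial.map_map]
      congr 1
      ext c
      simp [frobenius_def]
    have h24 := Polynomial.eval_map_apply (p := q.map (algebraMap F (commAlg h)))
      (frobenius (commAlg h) 2) (A ^ 12)
    rw [hPP, hq0, map_zero, frobenius_def, ← pow_mul] at h24
    -- five roots of a quartic
    obtain ⟨e, he⟩ : ∃ e : Fin 5 → ℕ, e = ![1, 8, 64, 512, 24] := ⟨_, rfl⟩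
    have hinj : Function.Injective (fun i : Fin 5 => A ^ e i) := by
      intro i j hij
      have hm : h ^ e i = h ^ e j := by
        apply mat_injective
        rw [mat_pow, mat_pow, ← hA, ← SubmonoidClass.coe_pow, ← SubmonoidClass.coe_pow]
        exact congrArg Subtype.val hij
      rw [pow_eq_pow_iff_modEq, hord, he] at hm
      exact (by decide : ∀ i j : Fin 5, (![1, 8, 64, 512, 24] : Fin 5 → ℕ) i ≡
        (![1, 8, 64, 512, 24] : Fin 5 → ℕ) j [MOD 13] → i = j) i j hm
    have hP0 : P = 0 := by
      refine Polynomial.eq_zero_of_natDegree_lt_card_of_eval_eq_zero P hinj (fun i => ?_) ?_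
      · rw [he]
        fin_cases i
        · simpa using hroots 0
        · simpa using hroots 1
        · simpa using hroots 2
        · simpa using hroots 3
        · simpa using h24
      · rw [hP]
        refine lt_of_le_of_lt Polynomial.natDegree_map_le ?_
        rw [hp, natDegree_le]; simp
    rw [hP] at hP0
    exact ((Matrix.charpoly_monic (mat h)).map (algebraMap F (commAlg h))).ne_zero hP0
  obtain ⟨r, hr'⟩ : ∃ r : commAlg h, (q.map (algebraMap F (commAlg h))).eval (A ^ 12) * r = 1 :=
    ⟨_, mul_inv_cancel₀ hqne⟩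
  have hr'' : aeval (mat h⁻¹) q * (r : Matrix (Fin 4) (Fin 4) F) = 1 := by
    have := congrArg Subtype.val hr'
    rw [Polynomial.eval_map_algebraMap] at this
    rw [← hA12, ← Subalgebra.coe_val, Polynomial.aeval_algHom_apply, Subalgebra.coe_val]
    exact this
  have hr3 : (r : Matrix (Fin 4) (Fin 4) F) * aeval (mat h⁻¹) q = 1 := mul_eq_one_comm.mp hr''
  calc X = X * (((aeval (mat h⁻¹) q).map (frobenius F 2))ᵀ *
        (((r : Matrix (Fin 4) (Fin 4) F)).map (frobenius F 2))ᵀ) := by
        rw [← Matrix.transpose_mul, ← Matrix.map_mul, hr3,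
          Matrix.map_one _ (map_zero _) (map_one _), Matrix.transpose_one, mul_one]
    _ = 0 := by rw [← hBq, ← mul_assoc, hXB, zero_mul]

include hF in
/-- Arbitrarily large groups with the prescribed prime graph. -/
theorem exists_large (N : ℕ) :
    ∃ (H : Type) (_ : Group H) (_ : Finite H), N < Nat.card H ∧
      (∀ p : ℕ, p.Prime → (p ∣ Nat.card H ↔ p ∈ ({2, 3, 5, 7, 13} : Finset ℕ))) ∧
      (∀ p q : ℕ, p.Prime → q.Prime → p ≠ q →
        ((∃ g : H, orderOf g = p * q) ↔ p * q ∈ ({6, 10, 14, 15} : Finset ℕ))) := by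
  classical
  haveI := charTwo hF
  haveI := finite_grp hF
  let Φ : Grp hF →* MulAut (Multiplicative (Mod F)) :=
    { toFun := fun g =>
        { toFun := fun X => Multiplicative.ofAdd (act hF g X.toAdd)
          invFun := fun X => Multiplicative.ofAdd (act hF g⁻¹ X.toAdd)
          left_inv := fun X => by simp [← act_mul, act_one]
          right_inv := fun X => by simp [← act_mul, act_one]
          map_mul' := fun X Y => by simp [act_add, ← ofAdd_add] }
      map_one' := MulEquiv.ext fun X => by simp [act_one]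
      map_mul' := fun g g' => MulEquiv.ext fun X => by simp [act_mul] }
  let K := Multiplicative (Mod F) ⋊[Φ] Grp hF
  haveI : Finite K := Finite.of_equiv _ SemidirectProduct.equivProd.symm
  let ι : Grp hF →* K := SemidirectProduct.inr
  have hι : Function.Injective ι := SemidirectProduct.inr_injective
  letI : DistribMulAction K (Mod F) :=
    { smul := fun k X => act hF k.right X
      one_smul := fun X => act_one hF X
      mul_smul := fun k k' X => by
        show act hF (k * k').right X = act hF k.right (act hF k'.right X)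
        rw [SemidirectProduct.mul_right, act_mul]
      smul_zero := fun k => by
        show act hF k.right 0 = 0
        have := act_add hF k.right 0 0
        rwa [add_zero, left_eq_add] at this
      smul_add := fun k X Y => act_add hF k.right X Y }
  have hKcard : Nat.card K = 2 ^ 48 * (29120 * 3) := by
    rw [SemidirectProduct.card, card_grp hF]
    congr 1
    rw [Nat.card_congr Multiplicative.toAdd,
      show Nat.card (Mod F) = Nat.card (Fin 4 → Fin 4 → F) from rfl, Nat.card_fun, Nat.card_fun,
      Nat.card_fin, Nat.card_eq_fintype_card, hF]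
    norm_num
  have hprimes : ∀ p : ℕ, p.Prime → (p ∣ Nat.card K ↔ p ∈ ({2, 3, 5, 7, 13} : Finset ℕ)) := by
    intro p hp
    rw [hKcard, show (2 : ℕ) ^ 48 * (29120 * 3) = 2 ^ 54 * (3 * (5 * (7 * 13))) by norm_num]
    simp only [Finset.mem_insert, Finset.mem_singleton]
    rw [hp.dvd_mul, hp.dvd_mul, hp.dvd_mul, hp.dvd_mul,
      Nat.prime_dvd_prime_iff_eq hp Nat.prime_three, Nat.prime_dvd_prime_iff_eq hp Nat.prime_five,
      Nat.prime_dvd_prime_iff_eq hp (by norm_num : Nat.Prime 7),
      Nat.prime_dvd_prime_iff_eq hp (by norm_num : Nat.Prime 13)]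
    constructor
    · rintro (h | h)
      · exact Or.inl ((Nat.prime_dvd_prime_iff_eq hp Nat.prime_two).mp (hp.dvd_of_dvd_pow h))
      · exact Or.inr h
    · rintro (rfl | h)
      · exact Or.inl (dvd_pow_self 2 (by norm_num))
      · exact Or.inr h
  -- odd orders
  have hnoK : ∀ k : K, ∀ n ∈ ({21, 39, 35, 65, 91, 26} : Finset ℕ), orderOf k ≠ n := by
    intro k n hn hk
    have hker : ∀ k' : K, k'.right = 1 → k' ^ 2 = 1 := by
      intro k' hk'
      have he : k' = SemidirectProduct.inl k'.left := SemidirectProduct.ext (by simp) (by simp [hk'])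
      rw [he, ← map_pow]
      refine (map_eq_one_iff _ SemidirectProduct.inl_injective).mpr ?_
      apply Multiplicative.toAdd.injective
      rw [toAdd_pow, toAdd_one, two_nsmul]
      exact CharTwo.add_self_eq_zero _
    obtain ⟨o, ho⟩ : ∃ o, o = orderOf k.right := ⟨_, rfl⟩
    have hd : o ∣ n := ho ▸ hk ▸ orderOf_map_dvd SemidirectProduct.rightHom k
    have h2o : n ∣ o * 2 := by
      rw [← hk]
      refine orderOf_dvd_of_pow_eq_one ?_
      rw [pow_mul]
      refine hker _ ?_
      show SemidirectProduct.rightHom (k ^ o) = 1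
      rw [map_pow, ho]
      exact pow_orderOf_eq_one k.right
    have hne : o ≠ n := fun h => no_edge hF k.right hn (ho.symm.trans h)
    obtain ⟨rfl, rfl⟩ : n = 26 ∧ o = 13 := by
      simp only [Finset.mem_insert, Finset.mem_singleton] at hn
      have hle := Nat.le_of_dvd (by rcases hn with rfl | rfl | rfl | rfl | rfl | rfl <;> norm_num) hd
      have hle' : n ≤ o * 2 := by
        refine Nat.le_of_dvd ?_ h2o
        rcases Nat.eq_zero_or_pos o with h0 | h0
        · rw [h0, zero_dvd_iff] at hd
          rcases hn with rfl | rfl | rfl | rfl | rfl | rfl <;> norm_num at hd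
        · omega
      obtain ⟨c, hc⟩ := hd
      have hc1 : c ≠ 1 := fun h => hne (by rw [hc, h, mul_one])
      have hc2 : c = 2 := by
        rcases Nat.lt_or_ge 2 c with h | h
        · exfalso
          have := Nat.mul_le_mul_left o h
          have ho0 : 0 < o := by
            rcases Nat.eq_zero_or_pos o with h0 | h0
            · rw [h0, zero_mul] at hc
              rcases hn with rfl | rfl | rfl | rfl | rfl | rfl <;> omega
            · exact h0
          nlinarith
        · rcases Nat.eq_zero_or_pos c with h0 | h0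
          · rw [h0, mul_zero] at hc
            rcases hn with rfl | rfl | rfl | rfl | rfl | rfl <;> omega
          · omega
      subst hc2
      rcases hn with rfl | rfl | rfl | rfl | rfl | rfl <;> omega
    -- an element of order 26 would give a fixed vector
    have h13 : (k ^ 13).right = 1 := by
      show SemidirectProduct.rightHom (k ^ 13) = 1
      rw [map_pow, ho]
      exact pow_orderOf_eq_one k.right
    have he : k ^ 13 = SemidirectProduct.inl (k ^ 13).left :=
      SemidirectProduct.ext (by simp) (by simp [h13])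
    have hcomm : k * k ^ 13 = k ^ 13 * k := (pow_succ' k 13).symm.trans (pow_succ k 13)
    rw [he] at hcomm
    have h2 : k.left * Φ k.right (k ^ 13).left = (k ^ 13).left * Φ 1 k.left :=
      congrArg SemidirectProduct.left hcomm
    rw [map_one, MulAut.one_apply] at h2
    rw [mul_comm (k ^ 13).left k.left] at h2
    have h3 := congrArg Multiplicative.toAdd (mul_left_cancel h2)
    have h4 := act_fpf hF k.right ho.symm ((k ^ 13).left).toAdd h3
    have h5 : k ^ 13 = 1 := by
      rw [he, show (k ^ 13).left = 1 from Multiplicative.toAdd.injective h4, map_one]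
    have := orderOf_dvd_of_pow_eq_one h5
    rw [hk] at this
    norm_num at this
  -- the witnesses
  let e5 : Cfsg.Sz F 1 := tSz hF 0 1 * wSz hF
  have h2ne : (tSz hF 0 1 * wSz hF : Cfsg.Sz F 1) ≠ 1 := fun h => by
    have h1 := congrArg (fun g : Cfsg.Sz F 1 => mat g 1 0) h
    rw [mat_mul, show mat (tSz hF 0 1) = tMat 1 0 1 from rfl,
      show mat (wSz hF) = suzukiForm F from rfl, mat_one] at h1
    simp [tMat, suzukiForm, Matrix.mul_apply, Fin.sum_univ_four, fz] at h1
  have he5 : orderOf e5 = 5 := by
    haveI : Fact (Nat.Prime 5) := ⟨Nat.prime_five⟩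
    refine orderOf_eq_prime (mat_injective ?_) h2ne
    rw [mat_pow, mat_mul, show mat (tSz hF 0 1) = tMat 1 0 1 from rfl,
      show mat (wSz hF) = suzukiForm F from rfl, mat_one]
    obtain ⟨M, hM⟩ : ∃ M : Mod F, M = !![1, 1, 0, 1; 1, 0, 1, 0; 0, 1, 0, 0; 1, 0, 0, 0] := ⟨_, rfl⟩
    have hM1 : tMat 1 0 1 * suzukiForm F = M := by
      rw [hM]
      ext i j
      fin_cases i <;> fin_cases j <;>
        simp [tMat, suzukiForm, Matrix.mul_apply, Fin.sum_univ_four, fz]
    rw [hM1, show (5 : ℕ) = 2 + 2 + 1 from rfl, pow_succ, pow_add, sq]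
    have hM2 : M * M = !![1, 1, 1, 1; 1, 0, 0, 1; 1, 0, 1, 0; 1, 1, 0, 1] := by
      rw [hM]
      ext i j
      fin_cases i <;> fin_cases j <;>
        simp [Matrix.mul_apply, Fin.sum_univ_four] <;> grind
    rw [hM2, hM]
    ext i j
    fin_cases i <;> fin_cases j <;>
      simp [Matrix.mul_apply, Fin.sum_univ_four] <;> grind
  obtain ⟨τ, hτ⟩ : ∃ τ : RingAut F, τ ≠ 1 := by
    by_contra h
    push Not at h
    haveI : Subsingleton (RingAut F) := ⟨fun a b => (h a).trans (h b).symm⟩
    have := Nat.card_of_subsingleton (1 : RingAut F)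
    rw [card_autF hF] at this
    omega
  have hτ3 : orderOf τ = 3 := by
    haveI : Fact (Nat.Prime 3) := ⟨Nat.prime_three⟩
    haveI : Finite (RingAut F) := Nat.finite_of_card_ne_zero (by rw [card_autF hF]; norm_num)
    exact ((Nat.dvd_prime Nat.prime_three).mp (card_autF hF ▸ orderOf_dvd_natCard τ)).resolve_left
      (fun h => hτ (orderOf_eq_one_iff.mp h))
  have hfixw : ∀ σ : RingAut F, fieldAutHom le_rfl hF σ (wSz hF) = wSz hF :=
    fun σ => fieldAut_wSz le_rfl hF σ
  have hfix5 : fieldAutHom le_rfl hF τ e5 = e5 := by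
    rw [map_mul, hfixw, show fieldAutHom le_rfl hF τ (tSz hF 0 1) = tSz hF (τ 0) (τ 1) from
      fieldAut_tSz le_rfl hF τ 0 1, map_zero, map_one]
  have hlr : ∀ h : Cfsg.Sz F 1, fieldAutHom le_rfl hF τ h = h →
      Commute (SemidirectProduct.inl h : Grp hF) (SemidirectProduct.inr τ) := by
    intro h hh
    refine SemidirectProduct.ext ?_ ?_ <;> simp [hh]
  have hvec : ∀ (h : Cfsg.Sz F 1) (X : Mod F), mat h * X * ((mat h).map (frobenius F 2))ᵀ = X →
      Commute (SemidirectProduct.inl (Multiplicative.ofAdd X) : K)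
        (ι (SemidirectProduct.inl h)) := by
    intro h X hh
    refine SemidirectProduct.ext ?_ ?_
    · simp only [SemidirectProduct.mul_left, SemidirectProduct.left_inl, SemidirectProduct.right_inl,
        map_one, MulAut.one_apply]
      show Multiplicative.ofAdd X * (1 : Multiplicative (Mod F)) =
        1 * Multiplicative.ofAdd (act hF (SemidirectProduct.inl h) X)
      rw [mul_one, one_mul]
      congr 1
      have h' : act hF (SemidirectProduct.inl h) X =
          mat h * X.map ((1 : RingAut F) : F → F) * ((mat h).map (frobenius F 2))ᵀ := rfl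
      rw [h']
      exact hh.symm
    · simp [ι]
  have hlift : ∀ (h : Cfsg.Sz F 1), orderOf (ι (SemidirectProduct.inl h)) = orderOf h := fun h => by
    rw [orderOf_injective _ hι, orderOf_injective _ SemidirectProduct.inl_injective]
  have hex : ∀ n ∈ ({6, 10, 14, 15} : Finset ℕ), ∃ k : K, orderOf k = n := by
    have hw2 : orderOf (wSz hF) = 2 := by
      haveI : Fact (Nat.Prime 2) := ⟨Nat.prime_two⟩
      refine orderOf_eq_prime (by rw [sq]; exact wSz_mul_self hF) fun he => ?_
      have := wSz_smul_infinity hF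
      rw [he, one_smul, ← pt_zero_zero (m := 1)] at this
      exact pt_ne_infinity 0 0 this.symm
    have hvec2 : ∀ (h : Cfsg.Sz F 1) (X : Mod F) (o : ℕ), orderOf h = o → Nat.Coprime 2 o →
        X ≠ 0 → mat h * X * ((mat h).map (frobenius F 2))ᵀ = X → ∃ k : K, orderOf k = 2 * o := by
      intro h X o ho hco hX hfix
      haveI : Fact (Nat.Prime 2) := ⟨Nat.prime_two⟩
      have hX2 : orderOf (SemidirectProduct.inl (Multiplicative.ofAdd X) : K) = 2 := by
        rw [orderOf_injective _ SemidirectProduct.inl_injective]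
        refine orderOf_eq_prime ?_ fun h1 => hX (congrArg Multiplicative.toAdd h1)
        apply Multiplicative.toAdd.injective
        rw [toAdd_pow, toAdd_one, two_nsmul]
        exact CharTwo.add_self_eq_zero _
      refine ⟨_, ((hvec h X hfix).orderOf_mul_eq_mul_orderOf_of_coprime ?_).trans ?_⟩
      · rw [hX2, hlift, ho]; exact hco
      · rw [hX2, hlift, ho]
    have hright : ∀ h : Cfsg.Sz F 1, fieldAutHom le_rfl hF τ h = h → Nat.Coprime (orderOf h) 3 →
        ∃ k : K, orderOf k = orderOf h * 3 := by
      intro h hh hco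
      refine ⟨ι (SemidirectProduct.inl h * SemidirectProduct.inr τ), ?_⟩
      rw [orderOf_injective _ hι, (hlr h hh).orderOf_mul_eq_mul_orderOf_of_coprime,
        orderOf_injective _ SemidirectProduct.inl_injective,
        orderOf_injective _ SemidirectProduct.inr_injective, hτ3]
      rw [orderOf_injective _ SemidirectProduct.inl_injective,
        orderOf_injective _ SemidirectProduct.inr_injective, hτ3]
      exact hco
    intro n hn
    simp only [Finset.mem_insert, Finset.mem_singleton] at hn
    rcases hn with rfl | rfl | rfl | rfl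
    · obtain ⟨k, hk⟩ := hright _ (hfixw τ) (by rw [hw2]; norm_num)
      exact ⟨k, by rw [hk, hw2]⟩
    · refine hvec2 e5 (suzukiForm F) 5 he5 (by norm_num) (fun h0 => ?_) ?_
      · have := congrFun (congrFun h0 0) 3
        simp [suzukiForm] at this
      · rw [mat_mul, show mat (tSz hF 0 1) = tMat 1 0 1 from rfl,
          show mat (wSz hF) = suzukiForm F from rfl]
        ext i j
        fin_cases i <;> fin_cases j <;>
          simp [tMat, suzukiForm, Matrix.mul_apply, Fin.sum_univ_four, fz, frobenius_def] <;> grind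
    · obtain ⟨κ, hκ⟩ := IsCyclic.exists_generator (α := Fˣ)
      have hκ7 : orderOf κ = 7 := by
        rw [orderOf_eq_card_of_forall_mem_zpowers hκ, Nat.card_units, Nat.card_eq_fintype_card, hF]
        norm_num
      have hd7 : orderOf (dSz hF κ) = 7 := by
        rw [← hκ7]
        exact orderOf_injective (dHom hF) (fun a b h => dSz_inj hF h) κ
      refine hvec2 (dSz hF κ) (Matrix.single 0 1 1) 7 hd7 (by norm_num) (fun h0 => ?_) ?_
      · have := congrFun (congrFun h0 0) 1
        simp at this
      · have hk7 : (κ : F) ^ 7 = 1 := by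
          rw [← hκ7, ← Units.val_pow_eq_pow_val, pow_orderOf_eq_one, Units.val_one]
        rw [show mat (dSz hF κ) = Matrix.diagonal (dVec 1 κ) from rfl,
          Matrix.diagonal_map (map_zero _), Matrix.diagonal_transpose]
        ext i j
        fin_cases i <;> fin_cases j <;>
          simp [Matrix.diagonal_mul, Matrix.mul_diagonal, dVec, frobenius_def] <;> linear_combination hk7
    · obtain ⟨k, hk⟩ := hright e5 hfix5 (by rw [he5]; norm_num)
      exact ⟨k, by rw [hk, he5]⟩
  have hedges : ∀ p q : ℕ, p.Prime → q.Prime → p ≠ q →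
      ((∃ g : K, orderOf g = p * q) ↔ p * q ∈ ({6, 10, 14, 15} : Finset ℕ)) := by
    intro p q hp hq hpq
    refine ⟨fun ⟨g, hg⟩ => ?_, hex _⟩
    have hp' := (hprimes p hp).mp ((dvd_mul_right p q).trans (hg ▸ orderOf_dvd_natCard g))
    have hq' := (hprimes q hq).mp ((dvd_mul_left q p).trans (hg ▸ orderOf_dvd_natCard g))
    by_contra hne
    have hno := hnoK g (p * q)
    simp only [Finset.mem_insert, Finset.mem_singleton] at hp' hq' hne hno
    rcases hp' with rfl | rfl | rfl | rfl | rfl <;> rcases hq' with rfl | rfl | rfl | rfl | rfl <;>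
      first
        | exact hpq rfl
        | (exfalso; apply hne; norm_num; done)
        | (exfalso; refine hno ?_ hg; norm_num; done)
  -- many copies of the module
  have hW : ∀ x : Mod F, 2 • x = 0 := fun x => by rw [two_nsmul]; exact CharTwo.add_self_eq_zero _
  have hfix : ∀ g : K, (orderOf g).Prime → orderOf g ≠ 2 →
      (¬ ∃ y : K, orderOf y = 2 * orderOf g) → ∀ x : Mod F, g • x = x → x = 0 := by
    intro g hg hg2 hno x hx
    have hmem := (hprimes _ hg).mp (orderOf_dvd_natCard g)
    simp only [Finset.mem_insert, Finset.mem_singleton] at hmem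
    have h13 : orderOf g = 13 := by
      rcases hmem with h | h | h | h | h
      · exact absurd h hg2
      · exact absurd (hex 6 (by simp)) (by rw [h] at hno; exact hno)
      · exact absurd (hex 10 (by simp)) (by rw [h] at hno; exact hno)
      · exact absurd (hex 14 (by simp)) (by rw [h] at hno; exact hno)
      · exact h
    refine act_fpf hF g.right ?_ x hx
    rcases (Nat.dvd_prime (by norm_num : Nat.Prime 13)).mp
      (h13 ▸ orderOf_map_dvd SemidirectProduct.rightHom g) with h | h
    · exfalso
      have hr : g.right = 1 := orderOf_eq_one_iff.mp h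
      have he : g = SemidirectProduct.inl g.left := SemidirectProduct.ext (by simp) (by simp [hr])
      have h2 : g ^ 2 = 1 := by
        rw [he, ← map_pow]
        refine (map_eq_one_iff _ SemidirectProduct.inl_injective).mpr ?_
        apply Multiplicative.toAdd.injective
        rw [toAdd_pow, toAdd_one, two_nsmul]
        exact CharTwo.add_self_eq_zero _
      have := orderOf_dvd_of_pow_eq_one h2
      rw [h13] at this
      norm_num at this
    · exact h
  obtain ⟨H, _, _, hN, hd, he⟩ := exists_large_same_primeGraph (G := K) (W := Mod F) 2 Nat.prime_two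
    ((hprimes 2 Nat.prime_two).mpr (by simp)) hW hfix N
  exact ⟨H, inferInstance, inferInstance, by rwa [Nat.card_eq_fintype_card],
    fun p hp => (hd p hp).symm.trans (hprimes p hp),
    fun p q hp hq hpq => (he p q hp hq hpq).symm.trans (hedges p q hp hq hpq)⟩

end Cfsg.Agent.PrimeGraph.SzEight
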